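import Mathlib.LinearAlgebra.BilinearForm.Properties
import Mathlib.Data.ZMod.Basic
import Mathlib.Algebra.GCDMonoid.Finset
import Mathlib.Algebra.GCDMonoid.Nat
import Mathlib.GroupTheory.QuotientGroup.Defs
import Mathlib.GroupTheory.QuotientGroup.Basic
import Mathlib.Algebra.Group.Subgroup.Basic
import Mathlib.LinearAlgebra.FreeModule.PID
import Mathlib.LinearAlgebra.Basis.SMul
import Mathlib.LinearAlgebra.StdBasis
import Mathlib.Tactic.LinearCombination

/-! Lattice computations: forms attached to a vector of given divisibility. -/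

set_option autoImplicit false

namespace K93.BoundaryForms

open Module

/-- A vector of divisibility `D` is `D` times the first vector of a basis. -/
theorem exists_basis (r : ℕ) (d : Fin (r + 1) → ℤ) :
    ∃ v : Basis (Fin (r + 1)) ℤ (Fin (r + 1) → ℤ), d = (Finset.univ.gcd d) • v 0 := by
  classical
  by_cases hd : d = 0
  · refine ⟨Pi.basisFun ℤ _, ?_⟩
    have : Finset.univ.gcd d = 0 := by
      rw [Finset.gcd_eq_zero_iff]
      intro i _
      rw [hd]; rfl
    rw [this, zero_smul, hd]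
  let L : Submodule ℤ (Fin (r + 1) → ℤ) := Submodule.span ℤ {d}
  obtain ⟨n, snf⟩ := Submodule.smithNormalForm (Pi.basisFun ℤ (Fin (r + 1))) L
  have hn : n = 1 := by
    have h1 : Module.finrank ℤ L = 1 := by
      rw [← (LinearEquiv.toSpanNonzeroSingleton ℤ _ d hd).finrank_eq, Module.finrank_self]
    rw [← h1, Module.finrank_eq_card_basis snf.bN, Fintype.card_fin]
  subst hn
  have hdL : d ∈ L := Submodule.mem_span_singleton_self d
  obtain ⟨k, hk⟩ : ∃ k : ℤ, d = k • snf.bM (snf.f 0) := by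
    have h1 := snf.bN.sum_repr ⟨d, hdL⟩
    rw [Fin.sum_univ_one] at h1
    have h2 := congrArg Subtype.val h1
    change (snf.bN.repr ⟨d, hdL⟩) 0 • (snf.bN 0 : Fin (r + 1) → ℤ) = d at h2
    rw [snf.snf, smul_smul] at h2
    exact ⟨_, h2.symm⟩
  set D := Finset.univ.gcd d with hD
  have hkD : k ∣ D := by
    apply Finset.dvd_gcd
    intro i _
    rw [hk]
    exact ⟨_, rfl⟩
  have hDk : D ∣ k := by
    have h1 : ∀ i, D ∣ d i := fun i => Finset.gcd_dvd (Finset.mem_univ i)
    choose d' hd' using h1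
    have h2 : d = D • d' := by
      ext i
      exact hd' i
    have h3 := congrArg (fun x => snf.bM.repr x (snf.f 0)) h2
    simp only [map_smul, Finsupp.smul_apply, smul_eq_mul] at h3
    rw [hk, map_smul, Finsupp.smul_apply, Basis.repr_self, Finsupp.single_eq_same, smul_eq_mul,
      mul_one] at h3
    exact ⟨_, h3⟩
  obtain ⟨u, hu⟩ := associated_of_dvd_dvd hDk hkD
  let v := (snf.bM.reindex (Equiv.swap (snf.f 0) 0)).unitsSMul (fun _ => u)
  refine ⟨v, ?_⟩
  have hv : v 0 = u • snf.bM (snf.f 0) := by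
    change (Basis.unitsSMul _ _) 0 = _
    rw [Basis.unitsSMul_apply, Basis.reindex_apply, Equiv.symm_swap, Equiv.swap_apply_right]
  rw [hv, Units.smul_def, smul_smul, hu]
  exact hk

section

variable {r : ℕ} (δ : ℕ) (g : ℤ) (hδ : (δ : ℤ) ∣ 2 * (g - 1)) (d : Fin (r + 1) → ℤ)

/-- The set of generators. -/
def gens : Set ((Fin (r + 1) → ℤ) →+ ZMod δ) :=
  {φ : (Fin (r + 1) → ℤ) →+ ZMod δ | ∃ b : LinearMap.BilinForm ℤ (Fin (r + 1) → ℤ), b.IsSymm ∧
      ∀ x, φ x = ((b d x + (1 - g) * b x x : ℤ) : ZMod δ)}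

variable {δ g}

include hδ in
/-- The additive map attached to a symmetric form. -/
theorem exists_hom (b : LinearMap.BilinForm ℤ (Fin (r + 1) → ℤ)) (hb : b.IsSymm) :
    ∃ φ ∈ gens δ g d, ∀ x, φ x = ((b d x + (1 - g) * b x x : ℤ) : ZMod δ) := by
  refine ⟨AddMonoidHom.mk' (fun x => ((b d x + (1 - g) * b x x : ℤ) : ZMod δ)) ?_,
    ⟨b, hb, fun x => rfl⟩, fun x => rfl⟩
  intro x y
  rw [← Int.cast_add, ZMod.intCast_eq_intCast_iff_dvd_sub]
  obtain ⟨k, hk⟩ := hδ
  refine ⟨k * b x y, ?_⟩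
  have h1 : b y x = b x y := hb.eq y x
  simp only [map_add, LinearMap.add_apply, h1]
  linear_combination (b x y) * hk

variable (δ g)

/-- The coefficients. -/
theorem mem_closure_iff (hδ : (δ : ℤ) ∣ 2 * (g - 1)) (v : Basis (Fin (r + 1)) ℤ (Fin (r + 1) → ℤ))
    (D : ℤ) (hv : d = D • v 0) (φ : (Fin (r + 1) → ℤ) →+ ZMod δ) :
    φ ∈ AddSubgroup.closure (gens δ g d) ↔
      (∃ t : ℤ, φ (v 0) = (((D + 1 - g) * t : ℤ) : ZMod δ)) ∧
      ∀ i : Fin r, ∃ t : ℤ, φ (v i.succ) = ((((Int.gcd (g - 1) D : ℕ) : ℤ) * t : ℤ) : ZMod δ) := by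
  classical
  constructor
  · intro h
    induction h using AddSubgroup.closure_induction with
    | mem φ hφ =>
      obtain ⟨b, hb, hφb⟩ := hφ
      refine ⟨⟨b (v 0) (v 0), ?_⟩, fun i => ?_⟩
      · rw [hφb, hv, map_smul, LinearMap.smul_apply, smul_eq_mul]
        congr 1
        ring
      · have hd1 : ((Int.gcd (g - 1) D : ℕ) : ℤ) ∣ b d (v i.succ) + (1 - g) * b (v i.succ) (v i.succ) := by
          rw [hv, map_smul, LinearMap.smul_apply, smul_eq_mul]
          apply dvd_add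
          · exact Dvd.dvd.mul_right (Int.gcd_dvd_right _ _) _
          · apply Dvd.dvd.mul_right
            rw [← dvd_neg, neg_sub]
            exact Int.gcd_dvd_left _ _
        obtain ⟨t, ht⟩ := hd1
        exact ⟨t, by rw [hφb, ht]⟩
    | zero =>
      exact ⟨⟨0, by simp⟩, fun i => ⟨0, by simp⟩⟩
    | add φ ψ _ _ hφ hψ =>
      obtain ⟨⟨t, ht⟩, h1⟩ := hφ
      obtain ⟨⟨t', ht'⟩, h1'⟩ := hψ
      refine ⟨⟨t + t', ?_⟩, fun i => ?_⟩
      · rw [AddMonoidHom.add_apply, ht, ht', mul_add, Int.cast_add]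
      · obtain ⟨s, hs⟩ := h1 i
        obtain ⟨s', hs'⟩ := h1' i
        exact ⟨s + s', by rw [AddMonoidHom.add_apply, hs, hs', mul_add, Int.cast_add]⟩
    | neg φ _ hφ =>
      obtain ⟨⟨t, ht⟩, h1⟩ := hφ
      refine ⟨⟨-t, ?_⟩, fun i => ?_⟩
      · rw [AddMonoidHom.neg_apply, ht, mul_neg, Int.cast_neg]
      · obtain ⟨s, hs⟩ := h1 i
        exact ⟨-s, by rw [AddMonoidHom.neg_apply, hs, mul_neg, Int.cast_neg]⟩
  · rintro ⟨⟨t₀, ht₀⟩, h1⟩
    choose t ht using h1
    -- Bezout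
    set P := Int.gcdA (g - 1) D
    set Q := Int.gcdB (g - 1) D
    have hPQ : ((Int.gcd (g - 1) D : ℕ) : ℤ) = (g - 1) * P + D * Q := Int.gcd_eq_gcd_ab _ _
    let ξ : Fin (r + 1) → ((Fin (r + 1) → ℤ) →ₗ[ℤ] ℤ) := fun i => v.coord i
    have hξ : ∀ i j, ξ i (v j) = if j = i then 1 else 0 := by
      intro i j
      simp only [ξ, Basis.coord_apply, Basis.repr_self, Finsupp.single_apply]
    let b : LinearMap.BilinForm ℤ (Fin (r + 1) → ℤ) := LinearMap.mk₂ ℤ
      (fun x y => t₀ * (ξ 0 x * ξ 0 y) + ∑ i : Fin r,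
        (Q * t i * (ξ 0 x * ξ i.succ y + ξ i.succ x * ξ 0 y) +
          (-(P * t i)) * (ξ i.succ x * ξ i.succ y)))
      (by
        intro x x' y
        simp only [map_add, add_mul, mul_add, Finset.sum_add_distrib]
        ring)
      (by
        intro c x y
        simp only [map_smul, smul_eq_mul, mul_add, Finset.mul_sum]
        congr 1
        · ring
        · exact Finset.sum_congr rfl fun i _ => by ring)
      (by
        intro x y y'
        simp only [map_add, add_mul, mul_add, Finset.sum_add_distrib]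
        ring)
      (by
        intro c x y
        simp only [map_smul, smul_eq_mul, mul_add, Finset.mul_sum]
        congr 1
        · ring
        · exact Finset.sum_congr rfl fun i _ => by ring)
    have hb : ∀ x y, b x y = t₀ * (ξ 0 x * ξ 0 y) + ∑ i : Fin r,
        (Q * t i * (ξ 0 x * ξ i.succ y + ξ i.succ x * ξ 0 y) +
          (-(P * t i)) * (ξ i.succ x * ξ i.succ y)) := fun x y => rfl
    have hsymm : b.IsSymm := by
      refine ⟨fun x y => ?_⟩
      rw [hb, hb]
      congr 1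
      · ring
      · exact Finset.sum_congr rfl fun i _ => by ring
    have hb00 : b (v 0) (v 0) = t₀ := by
      rw [hb]
      simp only [hξ, (Fin.succ_ne_zero _).symm, if_true, if_false]
      simp
    have hb0i : ∀ i : Fin r, b (v 0) (v i.succ) = Q * t i := by
      intro i
      rw [hb]
      simp only [hξ, (Fin.succ_ne_zero _).symm, Fin.succ_ne_zero, if_true, if_false, Fin.succ_inj]
      simp
    have hbii : ∀ i : Fin r, b (v i.succ) (v i.succ) = -(P * t i) := by
      intro i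
      rw [hb]
      simp only [hξ, (Fin.succ_ne_zero _).symm, Fin.succ_ne_zero, if_true, if_false, Fin.succ_inj]
      simp
    obtain ⟨ψ, hψ, hψb⟩ := exists_hom hδ d b hsymm
    have hφψ : φ = ψ := by
      have h2 : ∀ i, φ (v i) = ψ (v i) := by
        intro i
        refine Fin.cases ?_ (fun i => ?_) i
        · rw [ht₀, hψb, hv, map_smul, LinearMap.smul_apply, smul_eq_mul, hb00]
          congr 1
          ring
        · rw [ht, hψb, hv, map_smul, LinearMap.smul_apply, smul_eq_mul, hb0i, hbii, hPQ]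
          congr 1
          ring
      have h3 : φ.toIntLinearMap = ψ.toIntLinearMap := v.ext h2
      exact AddMonoidHom.ext fun x => LinearMap.congr_fun h3 x
    rw [hφψ]
    exact AddSubgroup.subset_closure hψ

end

section zmod

theorem castHom_eq_zero_iff (δ : ℕ) (c : ℤ) (h : Int.gcd δ c ∣ δ) (x : ZMod δ) :
    ZMod.castHom h (ZMod (Int.gcd δ c)) x = 0 ↔ ∃ t : ℤ, x = ((c * t : ℤ) : ZMod δ) := by
  obtain ⟨k, rfl⟩ := ZMod.intCast_surjective x
  rw [map_intCast, ZMod.intCast_zmod_eq_zero_iff_dvd]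
  constructor
  · rintro ⟨m, hm⟩
    refine ⟨Int.gcdB δ c * m, ?_⟩
    rw [ZMod.intCast_eq_intCast_iff_dvd_sub, hm, Int.gcd_eq_gcd_ab]
    exact ⟨- (Int.gcdA δ c * m), by ring⟩
  · rintro ⟨t, ht⟩
    rw [ZMod.intCast_eq_intCast_iff_dvd_sub] at ht
    have h1 : ((Int.gcd δ c : ℕ) : ℤ) ∣ c * t - k := (Int.gcd_dvd_left _ _).trans ht
    have h2 : ((Int.gcd δ c : ℕ) : ℤ) ∣ c * t := Dvd.dvd.mul_right (Int.gcd_dvd_right _ _) _
    have h3 := dvd_sub h2 h1
    rwa [sub_sub_cancel] at h3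

/-- Multiplication by `c` as a map `ZMod (δ / gcd (δ, c)) → ZMod δ`. -/
theorem exists_mul_hom (δ : ℕ) (hδ : 0 < δ) (c : ℤ) :
    ∃ μ : ZMod (δ / Int.gcd δ c) →+ ZMod δ, Function.Injective μ ∧
      ∀ t : ℤ, μ (t : ZMod (δ / Int.gcd δ c)) = ((c * t : ℤ) : ZMod δ) := by
  have hg0 : 0 < Int.gcd δ c := Int.gcd_pos_of_ne_zero_left _ (by exact_mod_cast hδ.ne')
  have hgδ : Int.gcd δ c ∣ δ := by
    have := Int.gcd_dvd_left (δ : ℤ) c
    exact_mod_cast this
  obtain ⟨e, he⟩ := hgδ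
  obtain ⟨c', hc'⟩ := Int.gcd_dvd_right (δ : ℤ) c
  have hdiv : δ / Int.gcd δ c = e := by
    exact Nat.div_eq_of_eq_mul_right hg0 he
  rw [hdiv]
  set G := Int.gcd δ c with hG
  let f : ℤ →+ ZMod δ := (Int.castAddHom (ZMod δ)).comp (AddMonoidHom.mulLeft c)
  have hf : ∀ t : ℤ, f t = ((c * t : ℤ) : ZMod δ) := fun t => rfl
  have hfe : f e = 0 := by
    rw [hf, ZMod.intCast_zmod_eq_zero_iff_dvd, hc', he]
    exact ⟨c', by push_cast; ring⟩
  refine ⟨ZMod.lift e ⟨f, hfe⟩, ?_, ?_⟩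
  · rw [ZMod.lift_injective]
    intro m hm
    change f m = 0 at hm
    rw [hf, ZMod.intCast_zmod_eq_zero_iff_dvd, he] at hm
    rw [ZMod.intCast_zmod_eq_zero_iff_dvd]
    have hG0 : (G : ℤ) ≠ 0 := by exact_mod_cast hg0.ne'
    have h1 : (e : ℤ) ∣ c' * m := by
      have h2 : (G : ℤ) * e ∣ (G : ℤ) * (c' * m) := by
        have h3 : ((G * e : ℕ) : ℤ) = (G : ℤ) * e := by push_cast; ring
        rw [← h3, ← mul_assoc, ← hc']
        exact hm
      exact (mul_dvd_mul_iff_left hG0).1 h2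
    have hcop : IsCoprime (e : ℤ) c' := by
      refine ⟨Int.gcdA δ c, Int.gcdB δ c, ?_⟩
      have h4 := Int.gcd_eq_gcd_ab (δ : ℤ) c
      rw [← hG] at h4
      have h5 : (δ : ℤ) = G * e := by exact_mod_cast he
      apply mul_left_cancel₀ hG0
      rw [mul_one]
      conv_rhs => rw [h4]
      generalize Int.gcdA (δ : ℤ) c = A
      generalize Int.gcdB (δ : ℤ) c = B
      rw [h5, hc']
      ring
    exact hcop.dvd_of_dvd_mul_left h1
  · intro t
    rw [ZMod.lift_coe]
    rfl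

end zmod

section main

variable (r : ℕ) (δ : ℕ) (g : ℤ) (hδ : (δ : ℤ) ∣ 2 * (g - 1)) (d : Fin (r + 1) → ℤ)

/-- The hom with given values on a basis. -/
noncomputable def homOf (v : Basis (Fin (r + 1)) ℤ (Fin (r + 1) → ℤ)) (s : ZMod δ)
    (t : Fin r → ZMod δ) : (Fin (r + 1) → ℤ) →+ ZMod δ :=
  (v.constr ℤ (Fin.cons s t : Fin (r + 1) → ZMod δ)).toAddMonoidHom

lemma homOf_zero (v : Basis (Fin (r + 1)) ℤ (Fin (r + 1) → ℤ)) (s : ZMod δ)
    (t : Fin r → ZMod δ) : homOf r δ v s t (v 0) = s := by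
  change v.constr ℤ (Fin.cons s t : Fin (r + 1) → ZMod δ) (v 0) = s
  rw [Basis.constr_basis, Fin.cons_zero]

lemma homOf_succ (v : Basis (Fin (r + 1)) ℤ (Fin (r + 1) → ℤ)) (s : ZMod δ)
    (t : Fin r → ZMod δ) (i : Fin r) : homOf r δ v s t (v i.succ) = t i := by
  change v.constr ℤ (Fin.cons s t : Fin (r + 1) → ZMod δ) (v i.succ) = t i
  rw [Basis.constr_basis, Fin.cons_succ]

lemma hom_ext (v : Basis (Fin (r + 1)) ℤ (Fin (r + 1) → ℤ)) (φ ψ : (Fin (r + 1) → ℤ) →+ ZMod δ)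
    (h0 : φ (v 0) = ψ (v 0)) (h1 : ∀ i : Fin r, φ (v i.succ) = ψ (v i.succ)) : φ = ψ := by
  have h3 : φ.toIntLinearMap = ψ.toIntLinearMap := v.ext fun i => by
    refine Fin.cases h0 (fun i => h1 i) i
  exact AddMonoidHom.ext fun x => LinearMap.congr_fun h3 x

include hδ in
theorem quotient_equiv :
    Nonempty ((((Fin (r + 1) → ℤ) →+ ZMod δ) ⧸ AddSubgroup.closure (gens δ g d)) ≃+
      (ZMod (Int.gcd δ (Finset.univ.gcd d + 1 - g)) ×
        (Fin r → ZMod (Int.gcd δ (Int.gcd (g - 1) (Finset.univ.gcd d)))))) := by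
  obtain ⟨v, hv⟩ := exists_basis r d
  set D := Finset.univ.gcd d with hD
  have h0 : Int.gcd δ (D + 1 - g) ∣ δ := by
    have := Int.gcd_dvd_left (δ : ℤ) (D + 1 - g)
    exact_mod_cast this
  have h1 : Int.gcd δ (Int.gcd (g - 1) D) ∣ δ := by
    have := Int.gcd_dvd_left (δ : ℤ) (Int.gcd (g - 1) D)
    exact_mod_cast this
  let c0 := ZMod.castHom h0 (ZMod (Int.gcd δ (D + 1 - g)))
  let c1 := ZMod.castHom h1 (ZMod (Int.gcd δ (Int.gcd (g - 1) D)))
  let Θ : ((Fin (r + 1) → ℤ) →+ ZMod δ) →+ (ZMod (Int.gcd δ (D + 1 - g)) ×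
        (Fin r → ZMod (Int.gcd δ (Int.gcd (g - 1) D)))) :=
    { toFun := fun φ => (c0 (φ (v 0)), fun i => c1 (φ (v i.succ)))
      map_zero' := by
        simp only [AddMonoidHom.zero_apply, map_zero]
        rfl
      map_add' := fun φ ψ => by
        simp only [AddMonoidHom.add_apply, map_add]
        rfl }
  have hsurj : Function.Surjective Θ := by
    rintro ⟨s, t⟩
    obtain ⟨s', hs'⟩ := ZMod.castHom_surjective h0 s
    choose t' ht' using fun i => ZMod.castHom_surjective h1 (t i)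
    refine ⟨homOf r δ v s' t', ?_⟩
    change (c0 _, fun i => c1 _) = (s, t)
    rw [homOf_zero]
    simp_rw [homOf_succ]
    congr 1
    funext i
    exact ht' i
  have hker : AddSubgroup.closure (gens δ g d) = Θ.ker := by
    ext φ
    rw [mem_closure_iff δ g d hδ v D hv φ, AddMonoidHom.mem_ker]
    change _ ↔ ((c0 (φ (v 0)), fun i => c1 (φ (v i.succ))) :
      ZMod (Int.gcd δ (D + 1 - g)) × (Fin r → ZMod (Int.gcd δ (Int.gcd (g - 1) D)))) = 0
    rw [Prod.mk_eq_zero, funext_iff]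
    exact and_congr (castHom_eq_zero_iff δ _ h0 _).symm
      (forall_congr' fun i => (castHom_eq_zero_iff δ _ h1 _).symm)
  rw [hker]
  exact ⟨QuotientAddGroup.quotientKerEquivOfSurjective Θ hsurj⟩

include hδ in
theorem closure_equiv (hδ0 : 0 < δ) :
    Nonempty (AddSubgroup.closure (gens δ g d) ≃+
      (ZMod (δ / Int.gcd δ (Finset.univ.gcd d + 1 - g)) ×
        (Fin r → ZMod (δ / Int.gcd δ (Int.gcd (g - 1) (Finset.univ.gcd d)))))) := by
  obtain ⟨v, hv⟩ := exists_basis r d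
  set D := Finset.univ.gcd d with hD
  obtain ⟨μ0, hμ0, hμ0'⟩ := exists_mul_hom δ hδ0 (D + 1 - g)
  obtain ⟨μ1, hμ1, hμ1'⟩ := exists_mul_hom δ hδ0 (Int.gcd (g - 1) D)
  let Ξ : (ZMod (δ / Int.gcd δ (D + 1 - g)) ×
        (Fin r → ZMod (δ / Int.gcd δ (Int.gcd (g - 1) D)))) →+
        ((Fin (r + 1) → ℤ) →+ ZMod δ) :=
    { toFun := fun x => homOf r δ v (μ0 x.1) (fun i => μ1 (x.2 i))
      map_zero' := by
        apply hom_ext r δ v
        · rw [homOf_zero]; exact map_zero μ0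
        · intro i; rw [homOf_succ]; exact map_zero μ1
      map_add' := fun x y => by
        apply hom_ext r δ v
        · rw [AddMonoidHom.add_apply, homOf_zero, homOf_zero, homOf_zero]; exact map_add μ0 _ _
        · intro i
          rw [AddMonoidHom.add_apply, homOf_succ, homOf_succ, homOf_succ]; exact map_add μ1 _ _ }
  have hmem : ∀ x, Ξ x ∈ AddSubgroup.closure (gens δ g d) := by
    rintro ⟨s, t⟩
    rw [mem_closure_iff δ g d hδ v D hv]
    refine ⟨?_, fun i => ?_⟩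
    · obtain ⟨k, rfl⟩ := ZMod.intCast_surjective s
      refine ⟨k, ?_⟩
      change homOf r δ v _ _ (v 0) = _
      rw [homOf_zero, hμ0']
    · obtain ⟨k, hk⟩ := ZMod.intCast_surjective (t i)
      refine ⟨k, ?_⟩
      change homOf r δ v _ (fun i => μ1 (t i)) (v i.succ) = _
      rw [homOf_succ, ← hk, hμ1']
  let Ξ' := Ξ.codRestrict (AddSubgroup.closure (gens δ g d)) hmem
  have hbij : Function.Bijective Ξ' := by
    constructor
    · rw [injective_iff_map_eq_zero]
      rintro ⟨s, t⟩ hst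
      have h1 : Ξ (s, t) = 0 := congrArg Subtype.val hst
      have h2 : homOf r δ v (μ0 s) (fun i => μ1 (t i)) = 0 := h1
      rw [Prod.mk_eq_zero]
      constructor
      · apply hμ0
        have h3 := DFunLike.congr_fun h2 (v 0)
        rw [homOf_zero] at h3
        rw [h3, map_zero μ0]
        rfl
      · funext i
        apply hμ1
        have h3 := DFunLike.congr_fun h2 (v i.succ)
        rw [homOf_succ] at h3
        rw [h3, Pi.zero_apply, map_zero μ1]
        rfl
    · rintro ⟨φ, hφ⟩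
      rw [mem_closure_iff δ g d hδ v D hv] at hφ
      obtain ⟨⟨t₀, ht₀⟩, h1⟩ := hφ
      choose t ht using h1
      refine ⟨((t₀ : ZMod _), fun i => (t i : ZMod _)), ?_⟩
      apply Subtype.ext
      change homOf r δ v (μ0 _) (fun i => μ1 _) = φ
      apply hom_ext r δ v
      · rw [homOf_zero, hμ0', ht₀]
      · intro i
        rw [homOf_succ, hμ1', ht]
  exact ⟨(AddEquiv.ofBijective Ξ' hbij).symm⟩

end main

end K93.BoundaryForms
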