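import Groth.Agent.FlatA.EtaleSlice
import Groth.Agent.Proet.WEtale2
import Mathlib.RingTheory.RingHom.Etale

/-!
# Étale coordinates vanishing at a point of a smooth algebra

If `B` is smooth over `C` and `q` is a prime of `B` whose residue field is formally unramified
over `C`, there are an element `g ∉ q` and an étale map `C[X_1, …, X_n] → B_g` sending the `X_i`
to elements of `q`.
-/

set_option autoImplicit false

namespace K93.Coords

open TensorProduct KaehlerDifferential Groth.Agent.FlatA.EtaleSlice

universe u

theorem exists_coords (A B : Type u) [CommRing A] [CommRing B] [Algebra A B]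
    [Algebra.Smooth A B] (q : Ideal B) [q.IsPrime] [Algebra.FormallyUnramified A q.ResidueField] :
    ∃ (g : B) (_ : g ∉ q) (κ : Type u) (_ : Finite κ)
      (φ : MvPolynomial κ A →ₐ[A] Localization.Away g), φ.toRingHom.Etale ∧
        ∀ i, ∃ a ∈ q, φ (MvPolynomial.X i) = algebraMap B _ a := by
  have hspan := span_D_prime_eq_top A B (Localization.AtPrime q) q
  have : Module.FinitePresentation (Localization.AtPrime q) Ω[Localization.AtPrime q⁄A] :=
    Module.finitePresentation_of_projective _ _
  obtain ⟨κ, a, b, hb⟩ := Module.exists_basis_of_span_of_flat _ hspan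
  let e : (κ →₀ B) →ₗ[B] Ω[B⁄A] :=
    Finsupp.linearCombination B fun i : κ ↦ D A B (a i)
  let l₁ : (κ →₀ B) →ₗ[B] (κ →₀ Localization.AtPrime q) :=
    Finsupp.mapRange.linearMap (Algebra.linearMap B (Localization.AtPrime q))
  let l₂ : Ω[B⁄A] →ₗ[B] Ω[Localization.AtPrime q⁄A] := map A A B (Localization.AtPrime q)
  let eₚ : (κ →₀ Localization.AtPrime q) →ₗ[Localization.AtPrime q] Ω[Localization.AtPrime q⁄A] :=
    IsLocalizedModule.mapExtendScalars q.primeCompl l₁ l₂ (Localization.AtPrime q) e
  have : eₚ = b.repr.symm := by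
    ext i
    trans IsLocalizedModule.map q.primeCompl l₁ l₂ e <| l₁ <| Finsupp.single i 1
    · simp [eₚ, -IsLocalizedModule.map_apply, l₁]
    · simp [l₂, e, hb]
  have heₚ : Function.Bijective eₚ := this ▸ b.repr.symm.bijective
  have : Finite κ := Module.Finite.finite_basis b
  obtain ⟨g, hg, h⟩ := Module.FinitePresentation.exists_notMem_bijective e q l₁ l₂ heₚ
  let l₁ₜ : (κ →₀ B) →ₗ[B] (κ →₀ Localization.Away g) :=
    Finsupp.mapRange.linearMap (Algebra.linearMap B _)
  let l₂ₜ : Ω[B⁄A] →ₗ[B] Ω[Localization.Away g⁄A] :=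
    map A A B (Localization.Away g)
  rw [← IsLocalizedModule.map_bijective_iff_localizedModuleMap_bijective l₁ₜ l₂ₜ] at h
  let eₜ' : (κ →₀ Localization.Away g) →ₗ[Localization.Away g] Ω[Localization.Away g⁄A] :=
    IsLocalizedModule.mapExtendScalars (Submonoid.powers g) l₁ₜ l₂ₜ (Localization.Away g) e
  have h' : Function.Bijective eₜ' := h
  have heₜ : ∀ i, eₜ' (Finsupp.single i 1) = D A _ (algebraMap B (Localization.Away g) (a i)) := by
    intro i
    trans IsLocalizedModule.map (Submonoid.powers g) l₁ₜ l₂ₜ e <| l₁ₜ <| Finsupp.single i 1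
    · simp [eₜ', -IsLocalizedModule.map_apply, l₁ₜ]
    · simp [l₂ₜ, e]
  let P := MvPolynomial κ A
  let φ : P →ₐ[A] Localization.Away g :=
    MvPolynomial.aeval fun i ↦ algebraMap B (Localization.Away g) (a i)
  have hφa : ∀ i, φ (MvPolynomial.X i) = algebraMap B (Localization.Away g) (a i) := fun i ↦
    MvPolynomial.aeval_X _ i
  algebraize [φ.toRingHom]
  have hφ : ∀ i, algebraMap P (Localization.Away g) (MvPolynomial.X i) =
      algebraMap B (Localization.Away g) (a i) := fun i ↦ MvPolynomial.aeval_X _ i
  have : IsScalarTower A P (Localization.Away g) := .of_algebraMap_eq' φ.comp_algebraMap.symm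
  have hbij : Function.Bijective (mapBaseChange A P (Localization.Away g)) := by
    let bb := (mvPolynomialBasis A κ).baseChange (Localization.Away g)
    have hcomp : (mapBaseChange A P (Localization.Away g)) ∘ₗ bb.repr.symm.toLinearMap = eₜ' := by
      ext i
      simp [bb, hφ, heₜ, -MvPolynomial.algebraMap_eq, P]
    have : Function.Bijective ((mapBaseChange A P (Localization.Away g)) ∘ₗ
        bb.repr.symm.toLinearMap) := hcomp ▸ h'
    rw [LinearMap.coe_comp] at this
    exact (Function.Bijective.of_comp_iff _ bb.repr.symm.bijective).mp this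
  have : Algebra.FormallyEtale P (Localization.Away g) :=
    formallyEtale_of_mapBaseChange_bijective A P (Localization.Away g) hbij
  have : Algebra.FinitePresentation P (Localization.Away g) :=
    .of_restrict_scalars_finitePresentation A P _
  have : Algebra.Etale P (Localization.Away g) := {}
  refine ⟨g, hg, κ, inferInstance, φ, this, fun i => ⟨a i, (a i).2, hφa i⟩⟩

end K93.Coords
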