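import Groth.Agent.CAlg.K93.TraceIdeal
import Mathlib.Algebra.Category.ModuleCat.Ext.Basic
import Mathlib.RingTheory.Regular.Category
import Mathlib.RingTheory.SimpleModule.Basic
import Mathlib.RingTheory.LocalRing.Module
import Mathlib.Algebra.Category.Grp.Zero

/-! Nonvanishing of `Ext¹` between torsion-free modules on two curves meeting at a point. -/

set_option autoImplicit false
universe u

open CategoryTheory Abelian

namespace K93.ExtTorsion

/-- Quotient of a ring of dimension at most one by a non-zero-divisor. -/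
lemma krullDimLE_zero_quotient {S : Type u} [CommRing S] (hdim : ringKrullDim S ≤ 1)
    (a : S) (ha : a ∈ nonZeroDivisors S) : Ring.KrullDimLE 0 (S ⧸ Ideal.span {a}) := by
  have hd := ringKrullDim_quotient_succ_le_of_nonZeroDivisor ha
  rw [Ring.krullDimLE_iff]
  rcases subsingleton_or_nontrivial (S ⧸ Ideal.span {a}) with hs | hnt
  · rw [ringKrullDim_eq_bot_of_subsingleton]
    exact bot_le
  have h1 := hd.trans hdim
  have h2 : ringKrullDim (S ⧸ Ideal.span {a}) + 1 ≤ 0 + 1 := by rwa [zero_add]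
  have h3 : ringKrullDim (S ⧸ Ideal.span {a}) ≠ ⊤ := by
    intro h
    rw [h] at h1
    exact absurd h1 (by decide)
  revert h2 h3
  have h4 : 0 ≤ ringKrullDim (S ⧸ Ideal.span {a}) := ringKrullDim_nonneg_of_nontrivial
  generalize ringKrullDim (S ⧸ Ideal.span {a}) = x at h4
  intro h2 h3
  induction x with
  | bot => exact absurd h4 (by decide)
  | coe x =>
    induction x with
    | top => exact absurd rfl h3
    | coe x =>
      have : x + 1 ≤ 0 + 1 := by exact_mod_cast h2
      have : x ≤ 0 := by omega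
      exact_mod_cast this

/-- A prime containing `Q` and an element `r` regular modulo `Q` is maximal if `dim R/Q ≤ 1`. -/
lemma isMaximal_of_mem {R : Type u} [CommRing R] (Q : Ideal R) (hdim : ringKrullDim (R ⧸ Q) ≤ 1)
    (r : R) (hr : Ideal.Quotient.mk Q r ∈ nonZeroDivisors (R ⧸ Q)) (p : Ideal R) [hp : p.IsPrime]
    (hQp : Q ≤ p) (hrp : r ∈ p) : p.IsMaximal := by
  have hd0 := krullDimLE_zero_quotient hdim _ hr
  let f : R →+* (R ⧸ Q) ⧸ Ideal.span {Ideal.Quotient.mk Q r} :=
    (Ideal.Quotient.mk _).comp (Ideal.Quotient.mk Q)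
  have hf : Function.Surjective f :=
    Ideal.Quotient.mk_surjective.comp Ideal.Quotient.mk_surjective
  have hker : RingHom.ker f ≤ p := by
    intro x hx
    rw [RingHom.mem_ker, RingHom.comp_apply, Ideal.Quotient.eq_zero_iff_mem,
      Ideal.mem_span_singleton'] at hx
    obtain ⟨y, hy⟩ := hx
    obtain ⟨y, rfl⟩ := Ideal.Quotient.mk_surjective y
    rw [← map_mul, Ideal.Quotient.eq] at hy
    have := p.sub_mem (p.mul_mem_left y hrp) (hQp hy)
    rwa [sub_sub_cancel] at this
  have hpp : (p.map f).IsPrime := Ideal.map_isPrime_of_surjective hf hker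
  have hmax := Ring.krullDimLE_zero_iff.1 hd0 _ hpp
  have hcomap : (p.map f).comap f = p := by
    rw [Ideal.comap_map_of_surjective _ hf, sup_eq_left]
    exact hker
  rw [← hcomap]
  exact Ideal.comap_isMaximal_of_surjective _ hf

/-- A reduced Noetherian local ring of dimension one has a regular element in its maximal
ideal. -/
lemma exists_regular {R : Type u} [CommRing R] [IsNoetherianRing R] [IsLocalRing R]
    (Q : Ideal R) [IsReduced (R ⧸ Q)] (hdim : ringKrullDim (R ⧸ Q) = 1) :
    ∃ r ∈ IsLocalRing.maximalIdeal R, Ideal.Quotient.mk Q r ∈ nonZeroDivisors (R ⧸ Q) := by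
  have hnt : Nontrivial (R ⧸ Q) := by
    by_contra h
    rw [not_nontrivial_iff_subsingleton] at h
    rw [ringKrullDim_eq_bot_of_subsingleton] at hdim
    exact absurd hdim (by decide)
  have hloc : IsLocalRing (R ⧸ Q) := IsLocalRing.of_surjective' _ Ideal.Quotient.mk_surjective
  obtain ⟨a, ha, ha'⟩ := K93.TraceIdeal.exists_nzd (IsLocalRing.maximalIdeal (R ⧸ Q)) (by
    intro s hs
    by_cases hu : IsUnit s
    · exfalso
      have hm : IsLocalRing.maximalIdeal (R ⧸ Q) = ⊥ := by
        rw [eq_bot_iff]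
        intro t ht
        have := hs t ht
        rwa [hu.mul_right_eq_zero] at this
      have hfield : IsField (R ⧸ Q) := IsLocalRing.isField_iff_maximalIdeal_eq.2 hm
      rw [ringKrullDim_eq_zero_of_isField hfield] at hdim
      exact absurd hdim (by decide)
    · have h2 := hs s hu
      exact IsReduced.eq_zero s ⟨2, by rw [pow_two]; exact h2⟩)
  obtain ⟨r, rfl⟩ := Ideal.Quotient.mk_surjective a
  refine ⟨r, ?_, ha'⟩
  rw [IsLocalRing.mem_maximalIdeal, mem_nonunits_iff] at ha ⊢
  exact fun h => ha (h.map _)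

/-- Lifting along `N → N/tN` from `Ext^1(M, N) = 0`. -/
theorem exists_lift {A : Type u} [CommRing A] (M N : Type u) [AddCommGroup M] [Module A M]
    [AddCommGroup N] [Module A N] (t : A) (htN : IsSMulRegular N t)
    (h : Subsingleton (Ext (ModuleCat.of A M) (ModuleCat.of A N) 1))
    (g : M →ₗ[A] QuotSMulTop t N) :
    ∃ g' : M →ₗ[A] N, ∀ x, Submodule.Quotient.mk (g' x) = g x := by
  have htN' : IsSMulRegular (ModuleCat.of A N) t := htN
  have hS := htN'.smulShortComplex_shortExact
  obtain ⟨y, hy⟩ := Ext.covariant_sequence_exact₃ (ModuleCat.of A M) hS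
    (Ext.mk₀ (ModuleCat.ofHom g : ModuleCat.of A M ⟶ ((ModuleCat.of A N).smulShortComplex t).X₃))
    (n₁ := 1) (by norm_num) (h.elim _ _)
  obtain ⟨z, rfl⟩ := (Ext.mk₀_bijective _ _).2 y
  refine ⟨z.hom, ?_⟩
  have h2 : z ≫ ((ModuleCat.of A N).smulShortComplex t).g = ModuleCat.ofHom g := by
    apply (Ext.mk₀_bijective _ _).1
    rw [← hy, Ext.mk₀_comp_mk₀]
  have h3 := congrArg ModuleCat.Hom.hom h2
  exact fun x => LinearMap.congr_fun h3 x

/-- A nontrivial finite module over a local ring surjects onto the residue field. -/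
theorem exists_surjective {R : Type u} [CommRing R] [IsLocalRing R] (I : Type u)
    [AddCommGroup I] [Module R I] [Module.Finite R I] [Nontrivial I] :
    ∃ f : I →ₗ[R] R ⧸ IsLocalRing.maximalIdeal R, Function.Surjective f := by
  obtain ⟨N, hN⟩ : ∃ N : Submodule R I, IsCoatom N := by
    have := (inferInstance : IsCoatomic (Submodule R I)).eq_top_or_exists_le_coatom ⊥
    rcases this with h | ⟨N, hN, -⟩
    · exact absurd h bot_ne_top
    · exact ⟨N, hN⟩
  have hs : IsSimpleModule R (I ⧸ N) := isSimpleModule_iff_isCoatom.2 hN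
  obtain ⟨m, hm, ⟨e⟩⟩ := isSimpleModule_iff_quot_maximal.1 hs
  have : m = IsLocalRing.maximalIdeal R := IsLocalRing.eq_maximalIdeal hm
  subst this
  exact ⟨e.toLinearMap ∘ₗ N.mkQ, e.surjective.comp N.mkQ_surjective⟩

theorem main
    (R : Type u) [CommRing R] [IsNoetherianRing R] [IsLocalRing R]
    (P Q : Ideal R) (hPQ : ∃ n : ℕ, IsLocalRing.maximalIdeal R ^ n ≤ P ⊔ Q)
    [IsReduced (R ⧸ Q)]
    (hQdim : ringKrullDim (R ⧸ Q) = 1)
    (I J : Type u) [AddCommGroup I] [Module R I] [Module.Finite R I] [Nontrivial I]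
    [AddCommGroup J] [Module R J] [Module.Finite R J] [Nontrivial J]
    (hPI : ∀ p ∈ P, ∀ x : I, p • x = 0) (hQJ : ∀ q ∈ Q, ∀ y : J, q • y = 0)
    (hJtf : ∀ r : R, Ideal.Quotient.mk Q r ∈ nonZeroDivisors (R ⧸ Q) → ∀ y : J, r • y = 0 → y = 0) :
    Nontrivial (Abelian.Ext (ModuleCat.of R I) (ModuleCat.of R J) 1) := by
  obtain ⟨r, hrm, hr⟩ := exists_regular Q hQdim
  obtain ⟨n, hn⟩ := hPQ
  -- every hom `I → J` is zero
  have hHom : ∀ f : I →ₗ[R] J, f = 0 := by
    intro f
    have hkill : ∀ s ∈ P ⊔ Q, ∀ x : I, s • f x = 0 := by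
      intro s hs x
      obtain ⟨p, hp, q, hq, rfl⟩ := Submodule.mem_sup.1 hs
      rw [add_smul, hQJ q hq, add_zero, ← map_smul, hPI p hp, map_zero]
    ext x
    apply hJtf (r ^ n)
    · rw [map_pow]
      exact Submonoid.pow_mem _ hr n
    · exact hkill _ (hn (Ideal.pow_mem_pow hrm n)) x
  have hrJ : IsSMulRegular J r := by
    intro x y hxy
    rw [← sub_eq_zero]
    apply hJtf r hr
    rw [smul_sub, sub_eq_zero]
    exact hxy
  by_contra hcon
  rw [not_nontrivial_iff_subsingleton] at hcon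
  -- socle of `J / r J`
  have hJr : Nontrivial (QuotSMulTop r J) := by
    by_contra h
    rw [not_nontrivial_iff_subsingleton] at h
    have htop : (open scoped Pointwise in r • (⊤ : Submodule R J)) = ⊤ :=
      Submodule.Quotient.subsingleton_iff.1 h
    have h2 : (⊤ : Submodule R J) ≤ Ideal.span {r} • (⊤ : Submodule R J) := by
      rw [Submodule.ideal_span_singleton_smul, htop]
    have h3 := Submodule.eq_bot_of_le_smul_of_le_jacobson_bot (Ideal.span {r}) ⊤
      Module.Finite.fg_top h2 (by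
        rw [IsLocalRing.jacobson_eq_maximalIdeal ⊥ bot_ne_top, Ideal.span_singleton_le_iff_mem]
        exact hrm)
    exact absurd h3.symm bot_ne_top
  obtain ⟨p, hp⟩ := associatedPrimes.nonempty R (QuotSMulTop r J)
  obtain ⟨hpp, y, hy⟩ := isAssociatedPrime_iff.1 hp
  have hy' : ∀ a : R, a ∈ p ↔ a • y = 0 := by
    intro a
    rw [hy]
    simp
  have hQp : Q ≤ p := by
    intro q hq
    rw [hy']
    obtain ⟨z, rfl⟩ := Submodule.Quotient.mk_surjective _ y
    rw [← Submodule.Quotient.mk_smul, hQJ q hq]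
    rfl
  have hrp : r ∈ p := by
    rw [hy']
    obtain ⟨z, rfl⟩ := Submodule.Quotient.mk_surjective _ y
    rw [← Submodule.Quotient.mk_smul, Submodule.Quotient.mk_eq_zero]
    exact Submodule.smul_mem_pointwise_smul _ _ _ trivial
  have hpmax : p.IsMaximal := isMaximal_of_mem Q hQdim.le r hr p hQp hrp
  have hpm : p = IsLocalRing.maximalIdeal R := IsLocalRing.eq_maximalIdeal hpmax
  have hy0 : y ≠ 0 := by
    rintro rfl
    apply hpp.ne_top
    rw [Ideal.eq_top_iff_one, hy']
    exact smul_zero _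
  let k : R ⧸ IsLocalRing.maximalIdeal R →ₗ[R] QuotSMulTop r J :=
    Submodule.liftQ _ (LinearMap.toSpanSingleton R _ y) (by
      intro a ha
      rw [LinearMap.mem_ker, LinearMap.toSpanSingleton_apply, ← hy', hpm]
      exact ha)
  obtain ⟨f, hf⟩ := exists_surjective (R := R) I
  obtain ⟨g', hg'⟩ := exists_lift I J r hrJ hcon (k ∘ₗ f)
  obtain ⟨x, hx⟩ := hf (Submodule.Quotient.mk 1)
  have h1 := hg' x
  rw [hHom g', LinearMap.comp_apply, hx, LinearMap.zero_apply, Submodule.Quotient.mk_zero] at h1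
  apply hy0
  have h2 : k (Submodule.Quotient.mk 1) = (1 : R) • y := rfl
  rw [h2, one_smul] at h1
  exact h1.symm

end K93.ExtTorsion
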