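import Groth.Agent.CAlg.K93.GorOne
import Mathlib.RingTheory.KrullDimension.PID
import Mathlib.RingTheory.Localization.Finiteness
import Mathlib.RingTheory.Artinian.Module
import Mathlib.LinearAlgebra.FreeModule.PID
import Mathlib.Algebra.Module.FinitePresentation
import Mathlib.RingTheory.LocalProperties.Reduced
import Mathlib.RingTheory.Ideal.GoingUp
import Mathlib.RingTheory.SimpleModule.InjectiveProjective

/-! Torsionless modules over finite free reduced algebras over a PID. -/

set_option autoImplicit false
universe u v

open nonZeroDivisors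

namespace K93.FreeTorsionless

variable (Λ : Type u) [CommRing Λ] [IsDomain Λ] [IsPrincipalIdealRing Λ]
    (S : Type u) [CommRing S] [Algebra Λ S] [Module.Finite Λ S]
    (M : Type u) [AddCommGroup M] [Module S M] [Module Λ M] [IsScalarTower Λ S M]
    [Module.Finite S M]

theorem free_of_torsionless [Module.Free Λ S] (h : Function.Injective (Module.Dual.eval S M)) :
    Module.Free Λ M := by
  have : IsNoetherianRing S := isNoetherian_of_isNoetherianRing_of_finite Λ S |> fun h =>
    isNoetherian_of_tower Λ h
  obtain ⟨n, f, hf⟩ := K93.GorOne.exists_embedding S M h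
  have : Module.Finite Λ M := Module.Finite.trans S M
  have htf : Module.IsTorsionFree Λ M :=
    Function.Injective.moduleIsTorsionFree f hf (fun c x => by
      rw [← algebraMap_smul S c x, map_smul, algebraMap_smul])
  infer_instance

omit [IsPrincipalIdealRing Λ] in
theorem ringKrullDim_le' : ringKrullDim S ≤ ringKrullDim Λ := by
  refine Order.krullDim_le_of_strictMono
    (fun x : PrimeSpectrum S ↦ PrimeSpectrum.comap (algebraMap Λ S) x) ?_
  intro x y hxy
  exact Ideal.IsIntegral.comap_lt_comap (R := Λ) (A := S) hxy

theorem ringKrullDim_le (Λ : Type u) [CommRing Λ] [IsDomain Λ] [IsPrincipalIdealRing Λ]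
    (S : Type u) [CommRing S] [Algebra Λ S] [Module.Finite Λ S] : ringKrullDim S ≤ 1 := by
  have h1 : ringKrullDim S ≤ ringKrullDim Λ := ringKrullDim_le' Λ S
  have h2 : ringKrullDim Λ ≤ (1 : ℕ) := Ring.krullDimLE_iff.1 inferInstance
  exact h1.trans h2

theorem torsionless_of_free [Module.Free Λ S] [IsReduced S] [Module.Free Λ M] :
    Function.Injective (Module.Dual.eval S M) := by
  have hN : IsNoetherianRing S := isNoetherian_of_isNoetherianRing_of_finite Λ S |> fun h =>
    isNoetherian_of_tower Λ h
  have : Module.Finite Λ M := Module.Finite.trans S M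
  let T := Algebra.algebraMapSubmonoid S Λ⁰
  let S' := Localization T
  let K := FractionRing Λ
  have hfin : Module.Finite K S' := Module.Finite.of_isLocalization Λ S Λ⁰
  have hart : IsArtinianRing S' := IsArtinianRing.of_finite K S'
  have hred : IsReduced S' := isReduced_localizationPreserves T S' inferInstance
  have hss : IsSemisimpleRing S' := IsArtinianRing.isSemisimpleRing_of_isReduced S'
  let M' := LocalizedModule T M
  let ι : M →ₗ[S] M' := LocalizedModule.mkLinearMap T M
  have hproj : Module.Projective S' M' := Module.projective_of_isSemisimpleRing S' M'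
  rw [injective_iff_map_eq_zero]
  intro m hm
  have hιm : ι m = 0 := by
    rw [← Module.forall_dual_apply_eq_zero_iff S']
    intro φ
    -- restrict and clear denominators
    have hfp : Module.FinitePresentation S M := Module.finitePresentation_of_finite S M
    obtain ⟨g, s, hs⟩ := Module.FinitePresentation.exists_lift_of_isLocalizedModule T
      (Algebra.linearMap S S') ((φ.restrictScalars S) ∘ₗ ι)
    have h1 : g m = 0 := LinearMap.congr_fun hm g
    have h2 := LinearMap.congr_fun hs m
    rw [LinearMap.comp_apply, h1, map_zero] at h2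
    have h3 : (s : S) • φ (ι m) = 0 := h2.symm
    have h4 : IsUnit (algebraMap S S' (s : S)) := IsLocalization.map_units _ s
    rw [← algebraMap_smul S' (s : S), h4.smul_eq_zero] at h3
    exact h3
  rw [IsLocalizedModule.eq_zero_iff T ι] at hιm
  obtain ⟨⟨s, l, hl, rfl⟩, hs⟩ := hιm
  have hs' : l • m = 0 := by
    rw [← algebraMap_smul S l m]
    exact hs
  exact (smul_eq_zero_iff_right (nonZeroDivisors.ne_zero hl)).1 hs'

theorem main [Module.Free Λ S] [IsReduced S] :
    (Function.Injective (Module.Dual.eval S M) ↔ Module.Free Λ M) ∧
      (LocCoh.IsGorensteinRing S → (Module.IsReflexive S M ↔ Module.Free Λ M)) := by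
  refine ⟨⟨free_of_torsionless Λ S M, fun _ => torsionless_of_free Λ S M⟩, fun hG => ⟨?_, ?_⟩⟩
  · intro h
    exact free_of_torsionless Λ S M (Module.bijective_dual_eval S M).1
  · intro h
    exact K93.GorOne.isReflexive_of_torsionless S (ringKrullDim_le Λ S) M
      (torsionless_of_free Λ S M)

end K93.FreeTorsionless
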