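import Groth.Agent.S0345
import Mathlib.LinearAlgebra.Dual.Lemmas

/-! Torsionless and reflexive modules over Gorenstein rings of dimension at most one. -/

set_option autoImplicit false
universe u v

open CategoryTheory Abelian

namespace K93.GorOne

/-- The injective dimension of a Gorenstein ring of dimension at most `d` is at most `d`. -/
theorem injDimLT (A : Type u) [CommRing A] [hG : LocCoh.IsGorensteinRing A] (d : ℕ)
    (hd' : ringKrullDim A ≤ d) : HasInjectiveDimensionLT (ModuleCat.of A A) (d + 1) := by
  rw [Groth.Agent.Localalg.InjDim.hasInjectiveDimensionLT_iff_ideal]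
  intro I
  have : Module.support A (Ext.{u} (ModuleCat.of A (A ⧸ I)) (ModuleCat.of A A) (d + 1)) = ∅ := by
    refine Set.eq_empty_of_forall_notMem fun p hp ↦ ?_
    refine (Groth.Agent.Sga2.ExtLoc.subsingleton_localized_iff p (A ⧸ I) A (d + 1)).1 ?_ hp
    have := hG.isGorensteinLocalRing_localization p.asIdeal
    obtain ⟨e, he⟩ := Groth.Agent.CalgA.RegBasic.ringKrullDim_eq_natCast
      (Localization.AtPrime p.asIdeal)
    have hed : e ≤ d := by
      have h3 := (IsLocalization.AtPrime.ringKrullDim_eq_height p.asIdeal
        (Localization.AtPrime p.asIdeal)).symm.trans he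
      have h4 := (Ideal.height_le_ringKrullDim_of_ne_top p.isPrime.ne_top).trans hd'
      rw [h3] at h4
      exact_mod_cast h4
    have h1 := Groth.Agent.S0345.injDim_lt _ e he
    have h2 : Subsingleton (Ext.{u} (ModuleCat.of (Localization.AtPrime p.asIdeal)
      (LocalizedModule p.asIdeal.primeCompl (A ⧸ I)))
      (ModuleCat.of (Localization.AtPrime p.asIdeal) (Localization.AtPrime p.asIdeal)) (d + 1)) :=
      HasInjectiveDimensionLT.subsingleton _ (e + 1) (d + 1) (by omega) _
    exact Groth.Agent.Localalg.InjDim.subsingleton_ext_congr (LinearEquiv.refl _ _)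
      (Groth.Agent.Sga2.ExtLoc.ringEquiv p.asIdeal.primeCompl).symm (d + 1) h2
  rwa [Module.support_eq_empty_iff] at this

section

variable {R : Type u} [CommRing R] {N P C : Type u} [AddCommGroup N] [Module R N]
  [AddCommGroup P] [Module R P] [AddCommGroup C] [Module R C]

/-- If `Ext¹` of the cokernel vanishes, homs extend. -/
theorem exists_extend (f : N →ₗ[R] P) (g : P →ₗ[R] C) (hf : Function.Injective f)
    (hg : Function.Surjective g) (hfg : Function.Exact f g) (Y : Type u) [AddCommGroup Y]
    [Module R Y] (hext : Subsingleton (Ext.{u} (ModuleCat.of R C) (ModuleCat.of R Y) 1))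
    (φ : N →ₗ[R] Y) : ∃ ψ : P →ₗ[R] Y, ψ ∘ₗ f = φ := by
  have hS := ModuleCat.shortComplex_shortExact
    (ModuleCat.shortComplexOfCompEqZero f g hfg.linearMap_comp_eq_zero) hfg hf hg
  obtain ⟨x, hx⟩ := Ext.contravariant_sequence_exact₁ hS (ModuleCat.of R Y)
    (Ext.mk₀ (ModuleCat.ofHom φ)) (add_zero 1) (hext.elim _ _)
  obtain ⟨x, rfl⟩ := (Ext.mk₀_bijective _ _).2 x
  refine ⟨x.hom, ?_⟩
  rw [Ext.mk₀_comp_mk₀] at hx
  have := (Ext.mk₀_bijective _ _).1 hx
  ext r
  exact congr($this r)

/-- If `P` is projective and `Ext²(C, Y) = 0`, then `Ext¹(N, Y) = 0`. -/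
theorem ext_one_of_ext_two [Module.Projective R P] (f : N →ₗ[R] P) (g : P →ₗ[R] C)
    (hf : Function.Injective f)
    (hg : Function.Surjective g) (hfg : Function.Exact f g) (Y : Type u) [AddCommGroup Y]
    [Module R Y] (hext : Subsingleton (Ext.{u} (ModuleCat.of R C) (ModuleCat.of R Y) 2)) :
    Subsingleton (Ext.{u} (ModuleCat.of R N) (ModuleCat.of R Y) 1) := by
  have hS := ModuleCat.shortComplex_shortExact
    (ModuleCat.shortComplexOfCompEqZero f g hfg.linearMap_comp_eq_zero) hfg hf hg
  have hproj : Projective (ModuleCat.of R P) :=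
    (IsProjective.iff_projective P).1 inferInstance
  exact Groth.Agent.Localalg.InjDim.subsingleton_ext_X₁ hS (ModuleCat.of R Y) 1
    (Ext.subsingleton_of_projective _ _ _) hext

end

section

variable (R : Type u) [CommRing R]

/-- A finitely generated torsionless module over a Noetherian ring embeds in a finite free one. -/
theorem exists_embedding [IsNoetherianRing R] (M : Type v) [AddCommGroup M] [Module R M]
    [Module.Finite R M] (hM : Function.Injective (Module.Dual.eval R M)) :
    ∃ (n : ℕ) (f : M →ₗ[R] (Fin n → R)), Function.Injective f := by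
  obtain ⟨n, s, hs⟩ := Module.Finite.exists_fin (R := R) (M := Module.Dual R M)
  refine ⟨n, LinearMap.pi s, ?_⟩
  rw [injective_iff_map_eq_zero]
  intro m hm
  apply hM
  rw [map_zero]
  ext φ
  have hφ : φ ∈ Submodule.span R (Set.range s) := by rw [hs]; trivial
  change φ m = 0
  induction hφ using Submodule.span_induction with
  | mem x hx =>
    obtain ⟨i, rfl⟩ := hx
    exact congrFun hm i
  | zero => rfl
  | add x y _ _ hx hy => rw [LinearMap.add_apply, hx, hy, add_zero]
  | smul r x _ hx => rw [LinearMap.smul_apply, hx, smul_zero]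

/-- A submodule of a finite free module is torsionless. -/
theorem torsionless_of_injective (M : Type v) [AddCommGroup M] [Module R M] (n : ℕ)
    (f : M →ₗ[R] (Fin n → R)) (hf : Function.Injective f) :
    Function.Injective (Module.Dual.eval R M) := by
  rw [injective_iff_map_eq_zero]
  intro m hm
  apply hf
  rw [map_zero]
  ext i
  exact LinearMap.congr_fun hm ((LinearMap.proj i) ∘ₗ f)

theorem torsionless_of_injective' (M : Type v) [AddCommGroup M] [Module R M] {N : Type*}
    [AddCommGroup N] [Module R N]
    (f : M →ₗ[R] N) (hf : Function.Injective f) (hN : Function.Injective (Module.Dual.eval R N)) :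
    Function.Injective (Module.Dual.eval R M) := by
  rw [injective_iff_map_eq_zero]
  intro m hm
  apply hf
  rw [map_zero]
  apply hN
  rw [map_zero]
  ext φ
  exact LinearMap.congr_fun hm (φ ∘ₗ f)

/-- Duals are torsionless. -/
theorem torsionless_dual (M : Type v) [AddCommGroup M] [Module R M] :
    Function.Injective (Module.Dual.eval R (Module.Dual R M)) := by
  rw [injective_iff_map_eq_zero]
  intro φ hφ
  ext m
  exact LinearMap.congr_fun hφ (Module.Dual.eval R M m)

variable [LocCoh.IsGorensteinRing R] (hdim : ringKrullDim R ≤ 1)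
include hdim

theorem ext_one_of_torsionless (M : Type u) [AddCommGroup M] [Module R M] [Module.Finite R M]
    (hM : Function.Injective (Module.Dual.eval R M)) :
    Subsingleton (Ext.{u} (ModuleCat.of R M) (ModuleCat.of R R) 1) := by
  obtain ⟨n, f, hf⟩ := exists_embedding R M hM
  refine ext_one_of_ext_two f (LinearMap.range f).mkQ hf (Submodule.mkQ_surjective _)
    (LinearMap.exact_iff.2 (by rw [Submodule.ker_mkQ])) R ?_
  have := injDimLT R 1 (by exact_mod_cast hdim)
  exact HasInjectiveDimensionLT.subsingleton _ 2 2 le_rfl _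

/-- Torsionless finite modules over a Gorenstein ring of dimension at most one are reflexive. -/
theorem isReflexive_of_torsionless (M : Type u) [AddCommGroup M] [Module R M] [Module.Finite R M]
    (hM : Function.Injective (Module.Dual.eval R M)) : Module.IsReflexive R M := by
  refine ⟨hM, ?_⟩
  obtain ⟨n, π, hπ⟩ := Module.Finite.exists_fin' R M
  -- `K` is the kernel of the presentation
  let K := LinearMap.ker π
  have hexK : Function.Exact K.subtype π := LinearMap.exact_subtype_ker_map π
  have hM1 := ext_one_of_torsionless R hdim M hM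
  -- `F^* → K^*` is surjective
  have hs1 : Function.Surjective (K.subtype.dualMap) := by
    intro φ
    obtain ⟨ψ, hψ⟩ := exists_extend K.subtype π K.injective_subtype hπ hexK R hM1 φ
    exact ⟨ψ, hψ⟩
  have hex : Function.Exact π.dualMap K.subtype.dualMap := by
    intro φ
    constructor
    · intro hφ
      have hk : LinearMap.ker π ≤ LinearMap.ker φ := by
        intro x hx
        exact LinearMap.congr_fun hφ (⟨x, hx⟩ : K)
      have hker : ∀ x y, π x = π y → φ x = φ y := by
        intro x y hxy
        rw [← sub_eq_zero, ← map_sub]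
        apply hk
        rw [LinearMap.mem_ker, map_sub, hxy, sub_self]
      choose s hs using hπ
      refine ⟨{ toFun := fun m => φ (s m), map_add' := ?_, map_smul' := ?_ }, ?_⟩
      · intro a b
        rw [← map_add]
        apply hker
        rw [hs, map_add, hs, hs]
      · intro c a
        rw [RingHom.id_apply, ← map_smul]
        apply hker
        rw [hs, map_smul, hs]
      · ext x
        apply hker
        exact hs _
    · rintro ⟨ψ, rfl⟩
      ext x
      change ψ (π x) = 0
      have : π x = 0 := x.2
      rw [this, map_zero]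
  have hinj : Function.Injective π.dualMap := by
    intro a b hab
    ext m
    obtain ⟨x, rfl⟩ := hπ m
    exact LinearMap.congr_fun hab x
  have hfinK : Module.Finite R K := Module.Finite.of_fg (IsNoetherian.noetherian K)
  have hfinD : Module.Finite R (Module.Dual R K) := inferInstance
  have hK1 := ext_one_of_torsionless R hdim (Module.Dual R K) (torsionless_dual R K)
  intro Φ
  obtain ⟨Ψ, hΨ⟩ := exists_extend π.dualMap K.subtype.dualMap hinj hs1 hex R hK1 Φ
  obtain ⟨x, hx⟩ := (Module.bijective_dual_eval R (Fin n → R)).2 Ψ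
  refine ⟨π x, ?_⟩
  rw [← hΨ, ← hx]
  ext φ
  rfl

end

end K93.GorOne
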