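import Groth.Agent.CAlg.K93.SysFactor
import Groth.Agent.Hensel.Lazard
import Groth.Agent.Hensel.LocalEtale
import Groth.Prelude.Def_Hensel

/-!
# Henselizing a directed system of local algebras with henselian colimit
-/

set_option autoImplicit false
set_option linter.unusedSectionVars false
universe u

open IsLocalRing

namespace K93.HensSys

open K93.SysDir

variable {A Λ : Type u} [CommRing A] [CommRing Λ] [Algebra A Λ] [HenselianLocalRing Λ] {ι : Type u}
    [PartialOrder ι] {L : ι → Type u} [∀ i, CommRing (L i)] [∀ i, Algebra A (L i)]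
    [∀ i, IsLocalRing (L i)] (D : Sys A Λ ι L)
    (ht : ∀ i j (h : i ≤ j), IsLocalHom (D.t i j h).toRingHom)
    (hu : ∀ i, IsLocalHom (D.u i).toRingHom)
    (S : ι → Type u) [∀ i, CommRing (S i)] [∀ i, IsLocalRing (S i)] [∀ i, Algebra (L i) (S i)]
    [∀ i, IsLocalHom (algebraMap (L i) (S i))] [hS : ∀ i, Hensel.IsHenselization (L i) (S i)]

/-- Any extension of a local homomorphism to the henselization is local. -/
theorem isLocalHom_of_comp {R T S : Type u} [CommRing R] [IsLocalRing R] [CommRing S]
    [IsLocalRing S] [Algebra R S] [IsLocalHom (algebraMap R S)] [Hensel.IsHenselization R S]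
    [CommRing T] [IsLocalRing T] (g : S →+* T) (h : IsLocalHom (g.comp (algebraMap R S))) :
    IsLocalHom g := by
  have h1 : (maximalIdeal S).map g ≤ maximalIdeal T := by
    rw [← Groth.Agent.Hensel.Exist.map_maximalIdeal_of_isHenselization R S, Ideal.map_map]
    exact ((IsLocalRing.local_hom_TFAE (g.comp (algebraMap R S))).out 0 2).1 h
  exact ((IsLocalRing.local_hom_TFAE g).out 0 2).2 h1

include hu in
theorem exists_psi (i : ι) : ∃ g : S i →+* Λ, g.comp (algebraMap (L i) (S i)) = (D.u i).toRingHom :=
  ((hS i).universal Λ (D.u i).toRingHom (hu i)).exists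

/-- The map to the colimit. -/
noncomputable def psi (i : ι) : S i →+* Λ := (exists_psi D hu S i).choose

theorem psi_comp (i : ι) : (psi D hu S i).comp (algebraMap (L i) (S i)) = (D.u i).toRingHom :=
  (exists_psi D hu S i).choose_spec

theorem psi_algebraMap (i : ι) (x : L i) : psi D hu S i (algebraMap (L i) (S i) x) = D.u i x :=
  congr($(psi_comp D hu S i) x)

theorem isLocalHom_psi (i : ι) : IsLocalHom (psi D hu S i) :=
  isLocalHom_of_comp (R := L i) _ (by rw [psi_comp]; exact hu i)

include ht in
theorem isLocalHom_aux (i j : ι) (h : i ≤ j) :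
    IsLocalHom ((algebraMap (L j) (S j)).comp (D.t i j h).toRingHom) := by
  have := ht i j h
  exact RingHom.isLocalHom_comp _ _

include ht in
theorem exists_phi (i j : ι) (h : i ≤ j) : ∃ g : S i →+* S j, g.comp (algebraMap (L i) (S i)) =
    (algebraMap (L j) (S j)).comp (D.t i j h).toRingHom := by
  have h1 : HenselianLocalRing (S j) := (hS j).henselian
  exact ((hS i).universal (S j) _ (isLocalHom_aux D ht S i j h)).exists

/-- The transition maps. -/
noncomputable def phi (i j : ι) (h : i ≤ j) : S i →+* S j := (exists_phi D ht S i j h).choose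

theorem phi_comp (i j : ι) (h : i ≤ j) : (phi D ht S i j h).comp (algebraMap (L i) (S i)) =
    (algebraMap (L j) (S j)).comp (D.t i j h).toRingHom :=
  (exists_phi D ht S i j h).choose_spec

theorem phi_algebraMap (i j : ι) (h : i ≤ j) (x : L i) :
    phi D ht S i j h (algebraMap (L i) (S i) x) = algebraMap (L j) (S j) (D.t i j h x) :=
  congr($(phi_comp D ht S i j h) x)

theorem isLocalHom_phi (i j : ι) (h : i ≤ j) : IsLocalHom (phi D ht S i j h) :=
  isLocalHom_of_comp (R := L i) _ (by rw [phi_comp]; exact isLocalHom_aux D ht S i j h)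

theorem psi_phi (i j : ι) (h : i ≤ j) : (psi D hu S j).comp (phi D ht S i j h) = psi D hu S i := by
  refine ((hS i).universal Λ (D.u i).toRingHom (hu i)).unique ?_ (psi_comp D hu S i)
  ext x
  change psi D hu S j (phi D ht S i j h (algebraMap (L i) (S i) x)) = D.u i x
  rw [phi_algebraMap, psi_algebraMap, D.u_comp]

theorem phi_phi (i j k : ι) (hij : i ≤ j) (hjk : j ≤ k) :
    (phi D ht S j k hjk).comp (phi D ht S i j hij) = phi D ht S i k (hij.trans hjk) := by
  have h1 : HenselianLocalRing (S k) := (hS k).henselian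
  refine ((hS i).universal (S k) _ (isLocalHom_aux D ht S i k (hij.trans hjk))).unique ?_
    (phi_comp D ht S i k (hij.trans hjk))
  ext x
  change phi D ht S j k hjk (phi D ht S i j hij (algebraMap (L i) (S i) x)) =
    algebraMap (L k) (S k) (D.t i k (hij.trans hjk) x)
  rw [phi_algebraMap, phi_algebraMap, D.t_comp]

theorem surj (a : Λ) : ∃ i x, psi D hu S i x = a := by
  obtain ⟨i, x, hx⟩ := D.surj a
  exact ⟨i, algebraMap (L i) (S i) x, by rw [psi_algebraMap, hx]⟩

theorem inj [IsDirected ι (· ≤ ·)] (i : ι) (x : S i) (hx : psi D hu S i x = 0) :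
    ∃ j, ∃ h : i ≤ j, phi D ht S i j h x = 0 := by
  obtain ⟨E, _, _, hE, χ, hχ⟩ :=
    Groth.Agent.Hensel.Lazard.exists_etale_of_isHenselization (L i) (S i) {x}
  obtain ⟨x', rfl⟩ := hχ (show x ∈ (({x} : Finset (S i)) : Set (S i)) by simp)
  let I : Ideal E := Ideal.span {x'}
  have hfp : Algebra.FinitePresentation (L i) (E ⧸ I) :=
    Algebra.FinitePresentation.quotient ⟨{x'}, by simp [I]⟩
  let f₀ : E →+* Λ := (psi D hu S i).comp χ.toRingHom
  have hI : ∀ a ∈ I, f₀ a = 0 := by
    have : I ≤ RingHom.ker f₀ := by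
      rw [Ideal.span_le, Set.singleton_subset_iff]
      exact hx
    exact fun a ha => this ha
  let f : E ⧸ I →+* Λ := Ideal.Quotient.lift I f₀ hI
  obtain ⟨j, hij, g, hg1, hg2⟩ := SysFactor.exists_factor D i (E ⧸ I) hfp f (fun b => by
    change f₀ (algebraMap (L i) E b) = _
    change psi D hu S i (χ (algebraMap (L i) E b)) = _
    rw [χ.commutes, psi_algebraMap])
  refine ⟨j, hij, ?_⟩
  let _ : Algebra (L i) (S j) := ((algebraMap (L j) (S j)).comp (D.t i j hij).toRingHom).toAlgebra
  let a₁ : E →ₐ[L i] S j :=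
    { (algebraMap (L j) (S j)).comp (g.comp (Ideal.Quotient.mk I)) with
      commutes' := fun r => by
        change algebraMap (L j) (S j) (g (algebraMap (L i) (E ⧸ I) r)) = _
        rw [hg1]
        rfl }
  let a₂ : E →ₐ[L i] S j :=
    { (phi D ht S i j hij).comp χ.toRingHom with
      commutes' := fun r => by
        change phi D ht S i j hij (χ (algebraMap (L i) E r)) = _
        rw [χ.commutes, phi_algebraMap]
        rfl }
  have hloc := isLocalHom_psi D hu S j
  have heq : a₁ = a₂ := by
    refine Groth.Agent.Hensel.LocalEtale.algHom_eq_of_residue_eq a₁ a₂ fun e => ?_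
    have h1 : psi D hu S j (a₁ e - a₂ e) = 0 := by
      rw [map_sub, sub_eq_zero]
      change psi D hu S j (algebraMap (L j) (S j) (g (Ideal.Quotient.mk I e))) =
        ((psi D hu S j).comp (phi D ht S i j hij)) (χ e)
      rw [psi_algebraMap, hg2, psi_phi]
      rfl
    rw [← sub_eq_zero, ← map_sub, residue_eq_zero_iff, mem_maximalIdeal, mem_nonunits_iff]
    intro h2
    have h3 := h2.map (psi D hu S j)
    rw [h1] at h3
    exact not_isUnit_zero h3
  have h4 : a₂ x' = a₁ x' := by rw [heq]
  change a₂ x' = 0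
  rw [h4]
  change algebraMap (L j) (S j) (g (Ideal.Quotient.mk I x')) = 0
  have h5 : Ideal.Quotient.mk I x' = 0 :=
    Ideal.Quotient.eq_zero_iff_mem.2 (Ideal.subset_span (Set.mem_singleton x'))
  rw [h5, map_zero, map_zero]

end K93.HensSys
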