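import Groth.Agent.CAlg.K93.SysDir
import Mathlib.RingTheory.Localization.AtPrime.Basic
import Mathlib.RingTheory.LocalRing.RingHom.Basic

/-!
# Localizing a directed system of algebras with local colimit

If `Λ` is a local ring and the colimit of the algebras `B i`, then `Λ` is the colimit of the
localizations of the `B i` at the preimages of the maximal ideal.
-/

set_option autoImplicit false
universe u

open IsLocalRing

namespace K93.LocSys

open K93.SysDir

variable {A Λ : Type u} [CommRing A] [CommRing Λ] [Algebra A Λ] [IsLocalRing Λ] {ι : Type u}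
    [PartialOrder ι] {B : ι → Type u} [∀ i, CommRing (B i)] [∀ i, Algebra A (B i)]
    (D : Sys A Λ ι B)

/-- The prime. -/
def q (i : ι) : Ideal (B i) := (maximalIdeal Λ).comap (D.u i).toRingHom

instance (i : ι) : (q D i).IsPrime := by
  unfold q
  infer_instance

theorem mem_q (i : ι) (x : B i) : x ∈ q D i ↔ D.u i x ∈ maximalIdeal Λ := Iff.rfl

/-- The localization. -/
abbrev L (i : ι) : Type u := Localization.AtPrime (q D i)

theorem isUnit_u (i : ι) (s : (q D i).primeCompl) : IsUnit (D.u i s) := by
  by_contra h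
  exact s.2 ((mem_q D i _).2 h)

/-- The map to the colimit. -/
noncomputable def lu (i : ι) : L D i →ₐ[A] Λ :=
  IsLocalization.liftAlgHom (M := (q D i).primeCompl) (f := D.u i) (isUnit_u D i)

theorem lu_algebraMap (i : ι) (x : B i) : lu D i (algebraMap (B i) (L D i) x) = D.u i x :=
  IsLocalization.lift_eq (M := (q D i).primeCompl) (isUnit_u D i) x

instance isLocalHom_lu (i : ι) : IsLocalHom (lu D i) := by
  refine ⟨fun a ha => ?_⟩
  obtain ⟨x, s, rfl⟩ := IsLocalization.exists_mk'_eq (q D i).primeCompl a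
  rw [IsLocalization.AtPrime.isUnit_mk'_iff (L D i) (q D i)]
  intro hx
  have h1 : lu D i (IsLocalization.mk' (L D i) x s) * D.u i s = D.u i x := by
    rw [← lu_algebraMap, ← lu_algebraMap, ← map_mul, IsLocalization.mk'_spec]
  have h2 : IsUnit (D.u i x) := by
    rw [← h1]
    exact ha.mul (isUnit_u D i s)
  exact ((mem_q D i x).1 hx) h2

theorem mem_primeCompl (i j : ι) (h : i ≤ j) (s : (q D i).primeCompl) :
    D.t i j h s ∈ (q D j).primeCompl := by
  intro hs
  refine s.2 ((mem_q D i _).2 ?_)
  rw [← D.u_comp i j h]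
  exact hs

/-- The transition maps. -/
noncomputable def lt (i j : ι) (h : i ≤ j) : L D i →ₐ[A] L D j :=
  IsLocalization.liftAlgHom (M := (q D i).primeCompl)
    (f := (IsScalarTower.toAlgHom A (B j) (L D j)).comp (D.t i j h)) fun s =>
      IsLocalization.map_units (L D j) ⟨_, mem_primeCompl D i j h s⟩

theorem lt_algebraMap (i j : ι) (h : i ≤ j) (x : B i) :
    lt D i j h (algebraMap (B i) (L D i) x) = algebraMap (B j) (L D j) (D.t i j h x) :=
  IsLocalization.lift_eq (M := (q D i).primeCompl) _ x

theorem algHom_ext (i : ι) {T : Type*} [CommRing T] [Algebra A T] (f g : L D i →ₐ[A] T)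
    (h : ∀ x, f (algebraMap (B i) (L D i) x) = g (algebraMap (B i) (L D i) x)) : f = g := by
  apply AlgHom.coe_ringHom_injective
  exact IsLocalization.ringHom_ext (q D i).primeCompl (RingHom.ext h)

theorem lu_comp (i j : ι) (h : i ≤ j) : (lu D j).comp (lt D i j h) = lu D i :=
  algHom_ext D i _ _ fun x => by
    rw [AlgHom.comp_apply, lt_algebraMap, lu_algebraMap, lu_algebraMap, D.u_comp]

theorem lt_comp (i j k : ι) (hij : i ≤ j) (hjk : j ≤ k) :
    (lt D j k hjk).comp (lt D i j hij) = lt D i k (hij.trans hjk) :=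
  algHom_ext D i _ _ fun x => by
    rw [AlgHom.comp_apply, lt_algebraMap, lt_algebraMap, lt_algebraMap, D.t_comp]

instance isLocalHom_lt (i j : ι) (h : i ≤ j) : IsLocalHom (lt D i j h) := by
  refine ⟨fun a ha => ?_⟩
  have h1 : IsUnit (lu D i a) := by
    rw [← lu_comp D i j h]
    exact ha.map (lu D j)
  exact isUnit_of_map_unit (lu D i) a h1

/-- The localized system. -/
noncomputable def sys : Sys A Λ ι (L D) where
  t := lt D
  u := lu D
  t_comp i j k hij hjk x := congr($(lt_comp D i j k hij hjk) x)
  u_comp i j h x := congr($(lu_comp D i j h) x)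
  surj a := by
    obtain ⟨i, x, hx⟩ := D.surj a
    exact ⟨i, algebraMap (B i) (L D i) x, by rw [lu_algebraMap, hx]⟩
  inj i a ha := by
    obtain ⟨x, s, rfl⟩ := IsLocalization.exists_mk'_eq (q D i).primeCompl a
    have h1 : D.u i x = 0 := by
      rw [← lu_algebraMap, ← IsLocalization.mk'_spec (L D i) x s, map_mul, ha, zero_mul]
    obtain ⟨j, h, hj⟩ := D.inj i x h1
    refine ⟨j, h, ?_⟩
    have h2 : IsUnit (lt D i j h (algebraMap (B i) (L D i) s)) :=
      (IsLocalization.map_units (L D i) s).map _
    rw [← h2.mul_left_eq_zero, ← map_mul, IsLocalization.mk'_spec, lt_algebraMap, hj, map_zero]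

end K93.LocSys
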