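import Mathlib.Algebra.Module.LocalizedModule.Basic
import Mathlib.RingTheory.Ideal.MinimalPrime.Basic
import Mathlib.RingTheory.Localization.AtPrime.Basic
import Mathlib.Algebra.Module.Submodule.Pointwise
import Mathlib.RingTheory.Ideal.Operations

/-! Modifications of modules along subsets of the minimal primes over a principal ideal. -/

set_option autoImplicit false
universe u

namespace K93.Modif

section

variable {A : Type u} [CommRing A]

lemma exists_pow_mul_mem {I p : Ideal A} (hp : p ∈ I.minimalPrimes) {x : A} (hx : x ∈ p) :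
    ∃ (n : ℕ) (t : A), t ∉ p ∧ t * x ^ n ∈ I := by
  have hpp : p.IsPrime := hp.1.1
  by_contra hcon
  push Not at hcon
  have hdisj : Disjoint (I : Set A) ((p.primeCompl ⊔ Submonoid.powers x : Submonoid A) : Set A) := by
    rw [Set.disjoint_left]
    rintro y hyI hy
    obtain ⟨t, ht, z, ⟨n, rfl⟩, rfl⟩ := Submonoid.mem_sup.1 hy
    exact hcon n t ht hyI
  obtain ⟨q, hq, hIq, hqd⟩ := Ideal.exists_le_prime_disjoint I _ hdisj
  have hqp : q ≤ p := by
    intro y hy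
    by_contra hyp
    exact Set.disjoint_left.1 hqd hy
      (Submonoid.mem_sup_left (show y ∈ p.primeCompl from hyp))
  have hpq : p ≤ q := hp.2 ⟨hq, hIq⟩ hqp
  exact Set.disjoint_left.1 hqd (hpq hx)
    (Submonoid.mem_sup_right (Submonoid.mem_powers x))

lemma mem_span_smul_top {X : Type*} [AddCommGroup X] [Module A X] (π : A) (x : X) :
    x ∈ Ideal.span {π} • (⊤ : Submodule A X) ↔ ∃ y : X, π • y = x := by
  rw [Submodule.ideal_span_singleton_smul, Submodule.mem_smul_pointwise_iff_exists]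
  simp

end

variable {A : Type u} [CommRing A] (π : A) {ι : Type} (𝔓 : ι → Ideal A) [∀ i, (𝔓 i).IsPrime]
  (X : Type u) [AddCommGroup X] [Module A X]

/-- Elements of `X` whose class modulo `π` vanishes at `𝔓 i`. -/
noncomputable def V (i : ι) : Submodule A X :=
  (LinearMap.ker (LocalizedModule.mkLinearMap (𝔓 i).primeCompl
    (X ⧸ Ideal.span {π} • (⊤ : Submodule A X)))).comap
    (Submodule.mkQ (Ideal.span {π} • (⊤ : Submodule A X)))

variable {X}

lemma mem_V (i : ι) (x : X) : x ∈ V π 𝔓 X i ↔ ∃ t, t ∉ 𝔓 i ∧ ∃ y : X, π • y = t • x := by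
  unfold V
  rw [Submodule.mem_comap, LocalizedModule.mem_ker_mkLinearMap_iff]
  constructor
  · rintro ⟨t, ht, h⟩
    rw [← map_smul, Submodule.mkQ_apply, Submodule.Quotient.mk_eq_zero, mem_span_smul_top] at h
    exact ⟨t, ht, h⟩
  · rintro ⟨t, ht, h⟩
    refine ⟨t, ht, ?_⟩
    rw [← map_smul, Submodule.mkQ_apply, Submodule.Quotient.mk_eq_zero, mem_span_smul_top]
    exact h

lemma pi_smul_mem_V (i : ι) (x : X) : π • x ∈ V π 𝔓 X i := by
  rw [mem_V]
  exact ⟨1, (Ideal.ne_top_iff_one _).1 (Ideal.IsPrime.ne_top inferInstance), x, by rw [one_smul]⟩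

lemma mem_comap_iInf (T : Set ι) (x : X) :
    x ∈ (⨅ i ∈ T, LinearMap.ker (LocalizedModule.mkLinearMap (𝔓 i).primeCompl
      (X ⧸ Ideal.span {π} • (⊤ : Submodule A X)))).comap
      (Submodule.mkQ (Ideal.span {π} • (⊤ : Submodule A X))) ↔ ∀ i ∈ T, x ∈ V π 𝔓 X i := by
  simp only [Submodule.mem_comap, Submodule.mem_iInf, V]

variable {π 𝔓}

/-- Membership of a submodule element. -/
lemma mem_V_of_mem_V_sub {i : ι} (N : Submodule A X) (x : N) (h : x ∈ V π 𝔓 N i) :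
    (x : X) ∈ V π 𝔓 X i := by
  rw [mem_V] at h ⊢
  obtain ⟨t, ht, y, hy⟩ := h
  exact ⟨t, ht, y, congrArg Subtype.val hy⟩

variable [Finite ι]
    (h𝔓 : ∀ i, 𝔓 i ∈ (Ideal.span {π}).minimalPrimes) (h𝔓inj : Function.Injective 𝔓)

include h𝔓 h𝔓inj in
lemma exists_smul_mem (Y : Set ι) (i : ι) (hi : i ∉ Y) (m : X) :
    ∃ s, s ∉ 𝔓 i ∧ ∀ j ∈ Y, s • m ∈ V π 𝔓 X j := by
  classical
  have := Fintype.ofFinite ι
  have h1 : ∀ j : ι, j ∈ Y → ∃ s, s ∈ 𝔓 j ∧ s ∉ 𝔓 i := by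
    intro j hj
    by_contra hcon
    push Not at hcon
    have h2 : 𝔓 j = 𝔓 i := le_antisymm hcon ((h𝔓 i).2 (h𝔓 j).1 hcon)
    exact hi (h𝔓inj h2 ▸ hj)
  have h2 : ∀ j : ι, ∃ s, s ∉ 𝔓 i ∧ (j ∈ Y → ∃ t, t ∉ 𝔓 j ∧ t * s ∈ Ideal.span {π}) := by
    intro j
    by_cases hj : j ∈ Y
    · obtain ⟨s, hs, hs'⟩ := h1 j hj
      obtain ⟨n, t, ht, hts⟩ := exists_pow_mul_mem (h𝔓 j) hs
      exact ⟨s ^ n, fun h => hs' ((inferInstance : (𝔓 i).IsPrime).mem_of_pow_mem n h),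
        fun _ => ⟨t, ht, hts⟩⟩
    · exact ⟨1, (Ideal.ne_top_iff_one _).1 (Ideal.IsPrime.ne_top inferInstance),
        fun h => absurd h hj⟩
  choose s hs hs' using h2
  refine ⟨∏ j, s j, ?_, ?_⟩
  · intro h
    obtain ⟨j, -, hj⟩ := ((inferInstance : (𝔓 i).IsPrime).prod_mem_iff).1 h
    exact hs j hj
  · intro j hj
    obtain ⟨t, ht, hts⟩ := hs' j hj
    rw [mem_V]
    refine ⟨t, ht, ?_⟩
    obtain ⟨c, hc⟩ := Ideal.mem_span_singleton'.1 hts
    refine ⟨(c * ∏ k ∈ Finset.univ.erase j, s k) • m, ?_⟩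
    rw [← Finset.mul_prod_erase Finset.univ s (Finset.mem_univ j), smul_smul, smul_smul]
    congr 1
    rw [← mul_assoc, mul_comm π c, hc]
    ring

section main

variable {M : Type u} [AddCommGroup M] [Module A M]
    (K : Set ι → Submodule A (M ⧸ Ideal.span {π} • (⊤ : Submodule A M)))
    (hK : ∀ T : Set ι, K T = ⨅ i ∈ T, LinearMap.ker
      (LocalizedModule.mkLinearMap (𝔓 i).primeCompl (M ⧸ Ideal.span {π} • (⊤ : Submodule A M))))
    (htf : K Set.univ = ⊥)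
    (N : Set ι → Submodule A M)
    (hN : ∀ T : Set ι, N T = (K T).comap (Submodule.mkQ (Ideal.span {π} • (⊤ : Submodule A M))))

include hK hN in
omit [Finite ι] in
lemma mem_N (T : Set ι) (m : M) : m ∈ N T ↔ ∀ i ∈ T, m ∈ V π 𝔓 M i := by
  rw [hN, hK, mem_comap_iInf]

include hK hN htf in
omit [Finite ι] in
lemma inf_compl (Y : Set ι) : N Y ⊓ N Yᶜ = Ideal.span {π} • (⊤ : Submodule A M) := by
  have h1 : N Y ⊓ N Yᶜ = N Set.univ := by
    ext m
    rw [Submodule.mem_inf, mem_N K hK N hN, mem_N K hK N hN, mem_N K hK N hN]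
    constructor
    · rintro ⟨h1, h2⟩ i -
      by_cases hi : i ∈ Y
      · exact h1 i hi
      · exact h2 i hi
    · intro h
      exact ⟨fun i _ => h i trivial, fun i _ => h i trivial⟩
  rw [h1, hN, htf, ← LinearMap.ker, Submodule.ker_mkQ]

include hK hN htf h𝔓 h𝔓inj in
lemma second (Y : Set ι) (n : N Y) :
    (∀ i ∈ Yᶜ, n ∈ V π 𝔓 (N Y) i) ↔ ∃ m : M, π • m = n := by
  rw [← mem_span_smul_top, ← inf_compl K hK htf N hN Y, Submodule.mem_inf]
  constructor
  · intro h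
    refine ⟨n.2, ?_⟩
    rw [mem_N K hK N hN]
    intro i hi
    exact mem_V_of_mem_V_sub _ _ (h i hi)
  · rintro h i hi
    rw [← Submodule.mem_inf, inf_compl K hK htf N hN Y, mem_span_smul_top] at h
    obtain ⟨m, hm⟩ := h
    obtain ⟨s, hs, hs'⟩ := exists_smul_mem h𝔓 h𝔓inj Y i hi m
    rw [mem_V]
    refine ⟨s, hs, ⟨s • m, (mem_N K hK N hN Y _).2 hs'⟩, ?_⟩
    apply Subtype.ext
    change π • s • m = s • (n : M)
    rw [← hm, smul_comm]

end main

end K93.Modif
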