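import Groth.Agent.CAlg.K93.Coords
import Groth.Agent.Proet.WEtale2
import Groth.Agent.CalgB.QuasiRegular

/-!
# Smooth algebras near a rational point

`C` a local ring, `B` a smooth `C`-algebra and `q` a prime of `B` over the maximal ideal of `C`
with trivial residue extension.  Then `B_q` is local and weakly étale over the localization of a
polynomial ring `C[Y_1, …, Y_n]` at `(𝔪_C, Y_1, …, Y_n)`.
-/

set_option autoImplicit false

namespace K93.RatPoint

open IsLocalRing

universe u

variable (C : Type u) [CommRing C] [IsLocalRing C]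

/-- The prime `(𝔪_C, Y_1, …, Y_n)`. -/
noncomputable abbrev P₀ (n : ℕ) : Ideal (MvPolynomial (Fin n) C) :=
  (maximalIdeal C).comap (MvPolynomial.constantCoeff : MvPolynomial (Fin n) C →+* C)

/-- The localization of the polynomial ring. -/
noncomputable abbrev P (n : ℕ) : Type u := Localization.AtPrime (P₀ C n)

variable (B : Type u) [CommRing B] [Algebra C B] (q : Ideal B) [q.IsPrime]

theorem exists_residue_eq (hq : q.comap (algebraMap C B) = maximalIdeal C)
    (hs : Function.Surjective ((Ideal.Quotient.mk q).comp (algebraMap C B)))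
    (x : q.ResidueField) : ∃ c : C, algebraMap C q.ResidueField c = x := by
  have key : ∀ b : B, ∃ c : C, b - algebraMap C B c ∈ q := by
    intro b
    obtain ⟨c, hc⟩ := hs (Ideal.Quotient.mk q b)
    refine ⟨c, ?_⟩
    rw [← Ideal.Quotient.mk_eq_mk_iff_sub_mem, ← hc]
    rfl
  have key2 : ∀ b : B, ∀ c : C, b - algebraMap C B c ∈ q →
      algebraMap B q.ResidueField b = algebraMap C q.ResidueField c := by
    intro b c hc
    rw [← sub_eq_zero, IsScalarTower.algebraMap_apply C B q.ResidueField, ← map_sub,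
      Ideal.algebraMap_residueField_eq_zero]
    exact hc
  obtain ⟨y, rfl⟩ := IsLocalRing.residue_surjective x
  obtain ⟨a, s, rfl⟩ := IsLocalization.exists_mk'_eq q.primeCompl y
  obtain ⟨c, hc⟩ := key a
  obtain ⟨d, hd⟩ := key s
  have hdu : IsUnit d := by
    by_contra hnu
    have h1 : d ∈ maximalIdeal C := hnu
    rw [← hq, Ideal.mem_comap] at h1
    have h2 : (s : B) = ((s : B) - algebraMap C B d) + algebraMap C B d := by ring
    refine s.2 ?_
    rw [h2]
    exact q.add_mem hd h1
  obtain ⟨v, rfl⟩ := hdu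
  refine ⟨c * (v⁻¹ : Cˣ), ?_⟩
  have h3 : residue (Localization.AtPrime q) (IsLocalization.mk' _ a s) *
      algebraMap B q.ResidueField s = algebraMap B q.ResidueField a := by
    change residue _ _ * residue _ (algebraMap B (Localization.AtPrime q) s) =
      residue _ (algebraMap B (Localization.AtPrime q) a)
    rw [← map_mul, IsLocalization.mk'_spec]
  rw [key2 _ _ hc, key2 _ _ hd] at h3
  rw [map_mul, ← h3, mul_assoc, ← map_mul, Units.mul_inv, map_one, mul_one]

theorem formallyUnramified_residueField (hq : q.comap (algebraMap C B) = maximalIdeal C)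
    (hs : Function.Surjective ((Ideal.Quotient.mk q).comp (algebraMap C B))) :
    Algebra.FormallyUnramified C q.ResidueField :=
  Algebra.FormallyUnramified.of_surjective (Algebra.ofId C q.ResidueField)
    (exists_residue_eq C B q hq hs)

theorem exists_weaklyEtale [Algebra.Smooth C B] (hq : q.comap (algebraMap C B) = maximalIdeal C)
    (hs : Function.Surjective ((Ideal.Quotient.mk q).comp (algebraMap C B))) :
    ∃ (n : ℕ) (_ : Algebra (P C n) (Localization.AtPrime q)),
      IsScalarTower C (P C n) (Localization.AtPrime q) ∧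
      IsLocalHom (algebraMap (P C n) (Localization.AtPrime q)) ∧
      Algebra.WeaklyEtale (P C n) (Localization.AtPrime q) := by
  have hur := formallyUnramified_residueField C B q hq hs
  obtain ⟨g, hg, κ, _, φ, hφ, hφq⟩ := Coords.exists_coords C B q
  obtain ⟨n, ⟨eκ⟩⟩ := Finite.exists_equiv_fin κ
  let Lq := Localization.AtPrime q
  -- the localization map `B_g → B_q`
  have hgu : ∀ y : Submonoid.powers g, IsUnit (algebraMap B Lq y) := by
    rintro ⟨_, m, rfl⟩
    rw [map_pow]
    exact (IsLocalization.map_units Lq (⟨g, hg⟩ : q.primeCompl)).pow m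
  let lam : Localization.Away g →ₐ[C] Lq :=
    IsLocalization.liftAlgHom (M := Submonoid.powers g) (f := IsScalarTower.toAlgHom C B Lq) hgu
  have hlam : ∀ b, lam (algebraMap B (Localization.Away g) b) = algebraMap B Lq b := fun b =>
    IsLocalization.lift_eq (M := Submonoid.powers g) hgu b
  let _ : Algebra (Localization.Away g) Lq := lam.toRingHom.toAlgebra
  have t1 : IsScalarTower B (Localization.Away g) Lq :=
    IsScalarTower.of_algebraMap_eq fun b => (hlam b).symm
  have hloc : IsLocalization (q.primeCompl.map (algebraMap B (Localization.Away g))) Lq :=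
    IsLocalization.isLocalization_of_submonoid_le (Localization.Away g) Lq (Submonoid.powers g)
      q.primeCompl (by
        rintro _ ⟨m, rfl⟩
        exact fun h => hg (Ideal.IsPrime.mem_of_pow_mem ‹_› m h))
  let e : MvPolynomial (Fin n) C ≃ₐ[C] MvPolynomial κ C := MvPolynomial.renameEquiv C eκ.symm
  let θ : MvPolynomial (Fin n) C →ₐ[C] Lq := (lam.comp φ).comp e.toAlgHom
  have hθX : ∀ i, θ (MvPolynomial.X i) ∈ maximalIdeal Lq := by
    intro i
    obtain ⟨a, ha, h1⟩ := hφq (eκ.symm i)
    change lam (φ (e (MvPolynomial.X i))) ∈ _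
    have h2 : e (MvPolynomial.X i) = MvPolynomial.X (eκ.symm i) := MvPolynomial.rename_X _ _
    rw [h2, h1, hlam]
    have h3 := (IsLocalization.AtPrime.to_map_mem_maximal_iff Lq q a)
    exact h3.2 ha
  have hθC : ∀ c, θ (MvPolynomial.C c) = algebraMap C Lq c := fun c => θ.commutes c
  have hmC : ∀ c, algebraMap C Lq c ∈ maximalIdeal Lq ↔ c ∈ maximalIdeal C := by
    intro c
    rw [IsScalarTower.algebraMap_apply C B Lq, IsLocalization.AtPrime.to_map_mem_maximal_iff Lq q,
      ← hq, Ideal.mem_comap]
  have hθ0 : ∀ p, MvPolynomial.constantCoeff p = 0 → θ p ∈ maximalIdeal Lq := by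
    intro p hp
    have h1 : p ∈ Ideal.span (Set.range (MvPolynomial.X : Fin n → MvPolynomial (Fin n) C)) :=
      (Groth.Agent.CalgB.QuasiRegular.mem_idealOfVars_iff p).2 hp
    have h2 : Ideal.span (Set.range (MvPolynomial.X : Fin n → MvPolynomial (Fin n) C)) ≤
        (maximalIdeal Lq).comap θ.toRingHom := by
      rw [Ideal.span_le]
      rintro _ ⟨i, rfl⟩
      exact hθX i
    exact h2 h1
  have hcomap : ∀ p, θ p ∈ maximalIdeal Lq ↔ p ∈ P₀ C n := by
    intro p
    have h1 : θ (p - MvPolynomial.C (MvPolynomial.constantCoeff p)) ∈ maximalIdeal Lq :=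
      hθ0 _ (by simp)
    have h2 : θ p = θ (p - MvPolynomial.C (MvPolynomial.constantCoeff p)) +
        algebraMap C Lq (MvPolynomial.constantCoeff p) := by
      rw [← hθC, ← map_add, sub_add_cancel]
    rw [h2, (maximalIdeal Lq).add_mem_iff_right h1, hmC]
    rfl
  have hu : ∀ y : (P₀ C n).primeCompl, IsUnit (θ y) := by
    intro y
    by_contra h
    exact y.2 ((hcomap y).1 h)
  let Θ : P C n →ₐ[C] Lq := IsLocalization.liftAlgHom (M := (P₀ C n).primeCompl) (f := θ) hu
  have hΘ : ∀ x, Θ (algebraMap (MvPolynomial (Fin n) C) (P C n) x) = θ x := fun x =>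
    IsLocalization.lift_eq (M := (P₀ C n).primeCompl) hu x
  let _ : Algebra (P C n) Lq := Θ.toRingHom.toAlgebra
  let _ : Algebra (MvPolynomial (Fin n) C) Lq := θ.toRingHom.toAlgebra
  let _ : Algebra (MvPolynomial (Fin n) C) (Localization.Away g) :=
    (φ.comp e.toAlgHom).toRingHom.toAlgebra
  have t2 : IsScalarTower (MvPolynomial (Fin n) C) (Localization.Away g) Lq :=
    IsScalarTower.of_algebraMap_eq fun _ => rfl
  have t3 : IsScalarTower (MvPolynomial (Fin n) C) (P C n) Lq :=
    IsScalarTower.of_algebraMap_eq fun x => (hΘ x).symm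
  have et1 : Algebra.Etale (MvPolynomial (Fin n) C) (Localization.Away g) := by
    have h1 : (φ.toRingHom.comp e.toRingEquiv.toRingHom).Etale :=
      RingHom.Etale.respectsIso.2 φ.toRingHom e.toRingEquiv hφ
    exact h1
  have w1 : Algebra.WeaklyEtale (MvPolynomial (Fin n) C) (Localization.Away g) := inferInstance
  have w2 : Algebra.WeaklyEtale (Localization.Away g) Lq :=
    Groth.Agent.Proet.WEtale2.weaklyEtale_of_isLocalization Lq
      (q.primeCompl.map (algebraMap B (Localization.Away g)))
  have w3 : Algebra.WeaklyEtale (MvPolynomial (Fin n) C) Lq :=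
    Algebra.WeaklyEtale.trans (MvPolynomial (Fin n) C) (Localization.Away g) Lq
  have w4 : Algebra.WeaklyEtale (MvPolynomial (Fin n) C) (P C n) :=
    Groth.Agent.Proet.WEtale2.weaklyEtale_of_isLocalization (P C n) (P₀ C n).primeCompl
  refine ⟨n, inferInstance, IsScalarTower.of_algebraMap_eq fun c => (Θ.commutes c).symm, ?_,
    Groth.Agent.Proet.WEtale2.weaklyEtale_of_weaklyEtale_comp (MvPolynomial (Fin n) C) (P C n) Lq⟩
  refine ⟨fun a ha => ?_⟩
  obtain ⟨x, s, rfl⟩ := IsLocalization.exists_mk'_eq (P₀ C n).primeCompl a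
  rw [IsLocalization.AtPrime.isUnit_mk'_iff (P C n) (P₀ C n)]
  intro hx
  have h1 : Θ (IsLocalization.mk' (P C n) x s) * θ s = θ x := by
    rw [← hΘ, ← hΘ, ← map_mul, IsLocalization.mk'_spec]
  have h2 : IsUnit (θ x) := by
    rw [← h1]
    exact IsUnit.mul ha (hu s)
  exact ((hcomap x).2 hx) h2

end K93.RatPoint
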