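import Groth.Agent.CAlg.K93.LocSys
import Groth.Agent.CAlg.K93.HensSys
import Groth.Agent.CAlg.K93.RatPoint
import Groth.Agent.Flat2G.StrictHens
import Groth.Agent.Sga4B.StrictHensTools
import Groth.Agent.Hensel.Exist

/-!
# Henselian ind-smooth algebras with trivial residue extension

`C` a local ring with separably closed residue field and `Λ` a henselian local `C`-algebra with
the same residue field which is ind-smooth over `C`.  Then `Λ` is the colimit of a directed system
of strict henselizations of `C[Y_1, …, Y_N]` at `(𝔪_C, Y_1, …, Y_N)`.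
-/

set_option autoImplicit false
universe u

open IsLocalRing

namespace K93.PopStrict

open K93.SysDir Groth.Agent.Proet RatPoint

variable (C Λ : Type u) [CommRing C] [IsLocalRing C] [CommRing Λ] [HenselianLocalRing Λ]
  [Algebra C Λ] [IsLocalHom (algebraMap C Λ)]

section

variable {C Λ}
variable {ι : Type u} [PartialOrder ι] {B : ι → Type u} [∀ i, CommRing (B i)]
  [∀ i, Algebra C (B i)] (D : Sys C Λ ι B)

theorem comap_q (i : ι) : (LocSys.q D i).comap (algebraMap C (B i)) = maximalIdeal C := by
  have h1 : (LocSys.q D i).comap (algebraMap C (B i)) = (maximalIdeal Λ).comap (algebraMap C Λ) := by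
    ext c
    rw [Ideal.mem_comap, LocSys.mem_q, AlgHom.commutes, Ideal.mem_comap]
  rw [h1]
  exact ((IsLocalRing.local_hom_TFAE (algebraMap C Λ)).out 0 4).1
    (inferInstance : IsLocalHom (algebraMap C Λ))

omit [IsLocalRing C] [IsLocalHom (algebraMap C Λ)] in
theorem surjective_q (hres : ∀ a : Λ, ∃ c : C, a - algebraMap C Λ c ∈ maximalIdeal Λ) (i : ι) :
    Function.Surjective ((Ideal.Quotient.mk (LocSys.q D i)).comp (algebraMap C (B i))) := by
  intro y
  obtain ⟨b, rfl⟩ := Ideal.Quotient.mk_surjective y
  obtain ⟨c, hc⟩ := hres (D.u i b)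
  refine ⟨c, ?_⟩
  change Ideal.Quotient.mk (LocSys.q D i) (algebraMap C (B i) c) = Ideal.Quotient.mk _ b
  rw [eq_comm, Ideal.Quotient.mk_eq_mk_iff_sub_mem, LocSys.mem_q, map_sub, AlgHom.commutes]
  exact hc

end

/-- The main theorem. -/
theorem main (hk : IsSepClosed (ResidueField C))
    (hres : ∀ a : Λ, ∃ c : C, a - algebraMap C Λ c ∈ maximalIdeal Λ)
    (hind : IndAlg (fun R S => Algebra.Smooth R S) C Λ) :
    ∃ (ι : Type u) (_ : Preorder ι) (_ : Nonempty ι) (_ : IsDirected ι (· ≤ ·))
      (S : ι → Type u) (_ : ∀ j, CommRing (S j)) (_ : ∀ j, IsLocalRing (S j)) (_ : ∀ j, Algebra C (S j))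
      (φ : ∀ i j, i ≤ j → (S i →ₐ[C] S j)) (ψ : ∀ j, S j →ₐ[C] Λ),
      (∀ i j (h : i ≤ j), IsLocalHom (φ i j h)) ∧
      (∀ i j l (hij : i ≤ j) (hjl : j ≤ l), (φ j l hjl).comp (φ i j hij) = φ i l (le_trans hij hjl)) ∧
      (∀ i j (h : i ≤ j), (ψ j).comp (φ i j h) = ψ i) ∧
      (∀ a : Λ, ∃ j, ∃ x : S j, ψ j x = a) ∧
      (∀ j (x : S j), ψ j x = 0 → ∃ l, ∃ h : j ≤ l, φ j l h x = 0) ∧
      (∀ j, ∃ (N : ℕ) (_ : Algebra (P C N) (S j)) (_ : IsLocalHom (algebraMap (P C N) (S j))),
          IsScalarTower C (P C N) (S j) ∧ Hensel.IsStrictHenselization (P C N) (S j)) := by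
  obtain ⟨ι, _, _, _, B, _, _, hB, ⟨D⟩⟩ := exists_system _ C Λ hind
  let E := LocSys.sys D
  choose S i1 i2 i3 i4 i5 _ using fun i =>
    Groth.Agent.Hensel.Exist.exists_isHenselization (LocSys.L D i)
  have ht : ∀ i j (h : i ≤ j), IsLocalHom (E.t i j h).toRingHom := fun i j h =>
    ⟨fun a ha => (LocSys.isLocalHom_lt D i j h).map_nonunit a ha⟩
  have hu : ∀ i, IsLocalHom (E.u i).toRingHom := fun i =>
    ⟨fun a ha => (LocSys.isLocalHom_lu D i).map_nonunit a ha⟩
  let algS : ∀ i, Algebra C (S i) := fun i =>
    ((algebraMap (LocSys.L D i) (S i)).comp (algebraMap C (LocSys.L D i))).toAlgebra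
  have htow : ∀ i, IsScalarTower C (LocSys.L D i) (S i) := fun i =>
    IsScalarTower.of_algebraMap_eq fun _ => rfl
  let φ : ∀ i j, i ≤ j → (S i →ₐ[C] S j) := fun i j h =>
    { HensSys.phi E ht S i j h with
      commutes' := fun c => by
        change HensSys.phi E ht S i j h (algebraMap (LocSys.L D i) (S i)
          (algebraMap C (LocSys.L D i) c)) = _
        rw [HensSys.phi_algebraMap, AlgHom.commutes]
        rfl }
  let ψ : ∀ j, S j →ₐ[C] Λ := fun j =>
    { HensSys.psi E hu S j with
      commutes' := fun c => by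
        change HensSys.psi E hu S j (algebraMap (LocSys.L D j) (S j)
          (algebraMap C (LocSys.L D j) c)) = _
        rw [HensSys.psi_algebraMap, AlgHom.commutes] }
  refine ⟨ι, inferInstance, inferInstance, inferInstance, S, i1, i2, algS, φ, ψ, ?_, ?_, ?_, ?_,
    ?_, ?_⟩
  · intro i j h
    exact ⟨fun a ha => (HensSys.isLocalHom_phi E ht S i j h).map_nonunit a ha⟩
  · intro i j l hij hjl
    ext x
    exact congr($(HensSys.phi_phi E ht S i j l hij hjl) x)
  · intro i j h
    ext1 x
    exact congr($(HensSys.psi_phi E ht hu S i j h) x)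
  · exact HensSys.surj E hu S
  · exact HensSys.inj E ht hu S
  · intro j
    have hq := comap_q D j
    have hs := surjective_q D hres j
    have hBj : Algebra.Smooth C (B j) := hB j
    obtain ⟨N, a1, a2, a3, a4⟩ := RatPoint.exists_weaklyEtale C (B j) (LocSys.q D j) hq hs
    let _ : Algebra (P C N) (S j) :=
      ((algebraMap (LocSys.L D j) (S j)).comp (algebraMap (P C N) (LocSys.L D j))).toAlgebra
    have tow : IsScalarTower (P C N) (LocSys.L D j) (S j) :=
      IsScalarTower.of_algebraMap_eq fun _ => rfl
    have tow' : IsScalarTower C (P C N) (S j) := IsScalarTower.of_algebraMap_eq fun c => by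
      change algebraMap (LocSys.L D j) (S j) (algebraMap C (LocSys.L D j) c) =
        algebraMap (LocSys.L D j) (S j) (algebraMap (P C N) (LocSys.L D j) (algebraMap C (P C N) c))
      rw [← IsScalarTower.algebraMap_apply C (P C N) (LocSys.L D j)]
    have hloc : IsLocalHom (algebraMap (P C N) (S j)) :=
      RingHom.isLocalHom_comp (algebraMap (LocSys.L D j) (S j))
        (algebraMap (P C N) (LocSys.L D j))
    -- the residue field of `S j` is separably closed
    have hsc : IsSepClosed (ResidueField (S j)) := by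
      have h1 : Function.Surjective ((residue (LocSys.L D j)).comp
          (algebraMap C (LocSys.L D j))) := exists_residue_eq C (B j) (LocSys.q D j) hq hs
      have h2 := Groth.Agent.Hensel.Exist.residueField_bijective_of_isHenselization
        (LocSys.L D j) (S j)
      have hlC : IsLocalHom (algebraMap C (LocSys.L D j)) := by
        refine ⟨fun c hc => ?_⟩
        have h3 := hc.map (LocSys.lu D j)
        rw [AlgHom.commutes] at h3
        exact isUnit_of_map_unit (algebraMap C Λ) c h3
      have h4 : Function.Bijective (ResidueField.map (algebraMap C (LocSys.L D j))) := by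
        refine ⟨RingHom.injective _, fun y => ?_⟩
        obtain ⟨c, hc⟩ := h1 y
        exact ⟨residue C c, by rw [ResidueField.map_residue]; exact hc⟩
      exact Groth.Agent.Hensel.Exist.isSepClosed_of_ringEquiv
        (RingEquiv.ofBijective (((ResidueField.map (algebraMap (LocSys.L D j) (S j))).comp
          (ResidueField.map (algebraMap C (LocSys.L D j)))))
            (h2.comp h4)).symm
    have hst : Hensel.IsStrictHenselization (LocSys.L D j) (S j) :=
      Groth.Agent.Sga4B.StrictHensTools.isStrictHenselization_of_isHenselization _ _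
    refine ⟨N, inferInstance, hloc, tow', ?_⟩
    exact Groth.Agent.Flat2G.StrictHens.isStrictHenselization_of_weaklyEtale (P C N)
      (LocSys.L D j) (S j)

end K93.PopStrict
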