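import Mathlib.RingTheory.Finiteness.ModuleFinitePresentation
import Mathlib.RingTheory.Adjoin.Tower
import Mathlib.RingTheory.FinitePresentation

/-! If `A` is finitely presented over `R`, finite over `B`, and `B` is a `B`-linear retract of `A`,
then `B` is finitely presented over `R`. -/

set_option autoImplicit false
universe u v w

namespace K93.RetractFP

theorem finitePresentation_of_retract {R : Type u} {A : Type v} {B : Type w} [CommRing R]
    [CommRing A] [CommRing B] [Algebra R A] [Algebra R B] [Algebra B A] [IsScalarTower R B A]
    [Algebra.FinitePresentation R A] [Module.Finite B A] (ρ : A →ₗ[B] B)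
    (hρ : ∀ b, ρ (algebraMap B A b) = b) : Algebra.FinitePresentation R B := by
  obtain ⟨B₀, hB₀, hB₀A⟩ := exists_subalgebra_of_fg R B A
    (Algebra.FiniteType.out) (Module.Finite.fg_top)
  have hft : Algebra.FiniteType R B₀ := ⟨(B₀.fg_top).2 hB₀⟩
  obtain ⟨n, f, hf⟩ := Algebra.FiniteType.iff_quotient_mvPolynomial''.1 hft
  let P := MvPolynomial (Fin n) R
  let φ : P →+* B := (B₀.val.toRingHom).comp f.toRingHom
  let _ : Algebra P B := φ.toAlgebra
  let _ : Algebra P A := ((algebraMap B A).comp φ).toAlgebra
  have : IsScalarTower P B A := IsScalarTower.of_algebraMap_eq (fun x => rfl)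
  have : IsScalarTower R P B := IsScalarTower.of_algebraMap_eq (fun x => by
    change algebraMap R B x = B₀.val (f (algebraMap R P x))
    rw [AlgHom.commutes, AlgHom.commutes])
  have : IsScalarTower R P A := IsScalarTower.of_algebraMap_eq (fun x => by
    change algebraMap R A x = algebraMap B A (B₀.val (f (algebraMap R P x)))
    rw [AlgHom.commutes, AlgHom.commutes, ← IsScalarTower.algebraMap_apply])
  have hfin : Module.Finite P A := by
    obtain ⟨s, hs⟩ := hB₀A
    refine ⟨⟨s, ?_⟩⟩
    rw [eq_top_iff]
    intro x _
    have hx : x ∈ Submodule.span B₀ (s : Set A) := by rw [hs]; trivial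
    induction hx using Submodule.span_induction with
    | mem x hx => exact Submodule.subset_span hx
    | zero => exact Submodule.zero_mem _
    | add x y _ _ hx hy => exact Submodule.add_mem _ (hx trivial) (hy trivial)
    | smul a x _ hx =>
      obtain ⟨p, hp⟩ := hf a
      have : a • x = p • x := by
        rw [← hp, Algebra.smul_def, Algebra.smul_def]
        rfl
      rw [this]
      exact Submodule.smul_mem _ _ (hx trivial)
  have : Algebra.FinitePresentation P A :=
    Algebra.FinitePresentation.of_restrict_scalars_finitePresentation R P A
  have : Module.FinitePresentation P A :=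
    Module.FinitePresentation.of_finite_of_finitePresentation P A
  let ρP : A →ₗ[P] B := ρ.restrictScalars P
  let ι : B →ₗ[P] A := (IsScalarTower.toAlgHom P B A).toLinearMap
  have hρι : ∀ b, ρP (ι b) = b := hρ
  have hsurj : Function.Surjective ρP := fun b => ⟨ι b, hρι b⟩
  have hker : (LinearMap.ker ρP).FG := by
    have : LinearMap.ker ρP = LinearMap.range (LinearMap.id - ι ∘ₗ ρP) := by
      ext x
      constructor
      · intro hx
        refine ⟨x, ?_⟩
        rw [LinearMap.mem_ker] at hx
        simp [hx]
      · rintro ⟨y, rfl⟩
        rw [LinearMap.mem_ker]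
        simp [hρι]
    have h := (Module.Finite.fg_top (R := P) (M := A)).map (LinearMap.id - ι ∘ₗ ρP)
    rwa [Submodule.map_top, ← this] at h
  have : Module.FinitePresentation P B :=
    Module.finitePresentation_of_surjective ρP hsurj hker
  have : Algebra.FinitePresentation P B := Algebra.FinitePresentation.of_finitePresentation P B
  exact Algebra.FinitePresentation.trans R P B

end K93.RetractFP
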