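import Mathlib.RingTheory.Smooth.StandardSmoothOfFree
import Mathlib.RingTheory.Etale.Kaehler
import Mathlib.RingTheory.Etale.QuasiFinite
import Mathlib.RingTheory.RingHom.Etale
import Groth.Agent.FlatA.EtaleSlice

/-!
# Étale slices of a smooth algebra along a section-like closed subscheme

If `C → B` is smooth, `J ⊆ B` an ideal with `C → B/J` surjective, and `q` a prime of `B`,
then after localizing at some `g ∉ q` there is an ideal `J₀ ≤ J B_g` with `C → B_g / J₀` étale.
-/

set_option autoImplicit false

namespace K93.SliceSurj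

open TensorProduct KaehlerDifferential Groth.Agent.FlatA.EtaleSlice

universe v w

/-- If `C → B/J` is surjective, then the differentials of elements of `J` span `Ω[L/C]` for any
localization `L` of `B`. -/
theorem span_D_eq_top (C : Type v) (B L : Type w) [CommRing C] [CommRing B] [CommRing L]
    [Algebra C B] [Algebra B L] [Algebra C L] [IsScalarTower C B L] (M : Submonoid B)
    [IsLocalization M L] (J : Ideal B)
    (hsurj : Function.Surjective ((Ideal.Quotient.mk J).comp (algebraMap C B))) :
    Submodule.span L (Set.range fun b : J ↦ D C L (algebraMap B L b)) = ⊤ := by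
  rw [eq_top_iff, ← KaehlerDifferential.span_range_derivation, Submodule.span_le]
  rintro _ ⟨x, rfl⟩
  obtain ⟨b, s, rfl⟩ := IsLocalization.exists_mk'_eq M x
  set N := Submodule.span L (Set.range fun b : J ↦ D C L (algebraMap B L b)) with hN
  -- every `D b` with `b` from `B` lies in the span
  have key : ∀ b : B, D C L (algebraMap B L b) ∈ N := by
    intro b
    obtain ⟨c, hc⟩ := hsurj (Ideal.Quotient.mk J b)
    have hj : b - algebraMap C B c ∈ J := by
      rw [← Ideal.Quotient.mk_eq_mk_iff_sub_mem, ← hc]
      rfl
    have h1 : D C L (algebraMap B L b) = D C L (algebraMap B L (b - algebraMap C B c)) := by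
      rw [map_sub (algebraMap B L), map_sub, ← IsScalarTower.algebraMap_apply C B L,
        Derivation.map_algebraMap, sub_zero]
    rw [h1]
    exact Submodule.subset_span ⟨⟨_, hj⟩, rfl⟩
  set x := IsLocalization.mk' L b s with hxdef
  have h1 : algebraMap B L s * x = algebraMap B L b := by
    rw [hxdef, mul_comm, IsLocalization.mk'_spec]
  have h2 : D C L (algebraMap B L b) = algebraMap B L s • D C L x + x • D C L (algebraMap B L s) := by
    rw [← h1, Derivation.leibniz]
  have hs : IsUnit (algebraMap B L s) := IsLocalization.map_units L s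
  obtain ⟨u, hu⟩ := hs
  have h3 : D C L x = (↑u⁻¹ : L) • D C L (algebraMap B L b) -
      (↑u⁻¹ : L) • x • D C L (algebraMap B L s) := by
    rw [h2, ← hu, smul_add, add_sub_cancel_right, smul_smul, Units.inv_mul, one_smul]
  change D C L x ∈ N
  rw [h3]
  exact Submodule.sub_mem _ (Submodule.smul_mem _ _ (key b))
    (Submodule.smul_mem _ _ (Submodule.smul_mem _ _ (key s)))

/-- A smooth algebra `A → B` with an ideal `J` such that `A → B/J` is surjective has, near any
prime `q`, an étale slice whose ideal is contained in `J`. -/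
theorem exists_slice (A : Type v) (B : Type w) [CommRing A] [CommRing B] [Algebra A B]
    [Algebra.Smooth A B] (J : Ideal B)
    (hsurj : Function.Surjective ((Ideal.Quotient.mk J).comp (algebraMap A B)))
    (q : Ideal B) [q.IsPrime] :
    ∃ (g : B) (J₀ : Ideal (Localization.Away g)), g ∉ q ∧
      J₀ ≤ J.map (algebraMap B (Localization.Away g)) ∧
      Algebra.Etale A (Localization.Away g ⧸ J₀) := by
  have hspan := span_D_eq_top A B (Localization.AtPrime q) q.primeCompl J hsurj
  have : Module.FinitePresentation (Localization.AtPrime q) Ω[Localization.AtPrime q⁄A] :=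
    Module.finitePresentation_of_projective _ _
  obtain ⟨κ, a, b, hb⟩ := Module.exists_basis_of_span_of_flat _ hspan
  let e : (κ →₀ B) →ₗ[B] Ω[B⁄A] :=
    Finsupp.linearCombination B fun i : κ ↦ D A B (a i)
  let l₁ : (κ →₀ B) →ₗ[B] (κ →₀ Localization.AtPrime q) :=
    Finsupp.mapRange.linearMap (Algebra.linearMap B (Localization.AtPrime q))
  let l₂ : Ω[B⁄A] →ₗ[B] Ω[Localization.AtPrime q⁄A] := map A A B (Localization.AtPrime q)
  let eₚ : (κ →₀ Localization.AtPrime q) →ₗ[Localization.AtPrime q] Ω[Localization.AtPrime q⁄A] :=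
    IsLocalizedModule.mapExtendScalars q.primeCompl l₁ l₂ (Localization.AtPrime q) e
  have : eₚ = b.repr.symm := by
    ext i
    trans IsLocalizedModule.map q.primeCompl l₁ l₂ e <| l₁ <| Finsupp.single i 1
    · simp [eₚ, -IsLocalizedModule.map_apply, l₁]
    · simp [l₂, e, hb]
  have heₚ : Function.Bijective eₚ := this ▸ b.repr.symm.bijective
  have : Finite κ := Module.Finite.finite_basis b
  obtain ⟨g, hg, h⟩ := Module.FinitePresentation.exists_notMem_bijective e q l₁ l₂ heₚ
  let l₁ₜ : (κ →₀ B) →ₗ[B] (κ →₀ Localization.Away g) :=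
    Finsupp.mapRange.linearMap (Algebra.linearMap B _)
  let l₂ₜ : Ω[B⁄A] →ₗ[B] Ω[Localization.Away g⁄A] :=
    map A A B (Localization.Away g)
  rw [← IsLocalizedModule.map_bijective_iff_localizedModuleMap_bijective l₁ₜ l₂ₜ] at h
  let eₜ' : (κ →₀ Localization.Away g) →ₗ[Localization.Away g] Ω[Localization.Away g⁄A] :=
    IsLocalizedModule.mapExtendScalars (Submonoid.powers g) l₁ₜ l₂ₜ (Localization.Away g) e
  have h' : Function.Bijective eₜ' := h
  have heₜ : ∀ i, eₜ' (Finsupp.single i 1) = D A _ (algebraMap B (Localization.Away g) (a i)) := by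
    intro i
    trans IsLocalizedModule.map (Submonoid.powers g) l₁ₜ l₂ₜ e <| l₁ₜ <| Finsupp.single i 1
    · simp [eₜ', -IsLocalizedModule.map_apply, l₁ₜ]
    · simp [l₂ₜ, e]
  let P := MvPolynomial κ A
  let φ : P →ₐ[A] Localization.Away g :=
    MvPolynomial.aeval fun i ↦ algebraMap B (Localization.Away g) (a i)
  algebraize [φ.toRingHom]
  have hφ : ∀ i, algebraMap P (Localization.Away g) (MvPolynomial.X i) =
      algebraMap B (Localization.Away g) (a i) := fun i ↦ MvPolynomial.aeval_X _ i
  have : IsScalarTower A P (Localization.Away g) := .of_algebraMap_eq' φ.comp_algebraMap.symm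
  have hbij : Function.Bijective (mapBaseChange A P (Localization.Away g)) := by
    let bb := (mvPolynomialBasis A κ).baseChange (Localization.Away g)
    have hcomp : (mapBaseChange A P (Localization.Away g)) ∘ₗ bb.repr.symm.toLinearMap = eₜ' := by
      ext i
      simp [bb, hφ, heₜ, -MvPolynomial.algebraMap_eq, P]
    have : Function.Bijective ((mapBaseChange A P (Localization.Away g)) ∘ₗ
        bb.repr.symm.toLinearMap) := hcomp ▸ h'
    rw [LinearMap.coe_comp] at this
    exact (Function.Bijective.of_comp_iff _ bb.repr.symm.bijective).mp this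
  have : Algebra.FormallyEtale P (Localization.Away g) :=
    formallyEtale_of_mapBaseChange_bijective A P (Localization.Away g) hbij
  have : Algebra.FinitePresentation P (Localization.Away g) :=
    .of_restrict_scalars_finitePresentation A P _
  have : Algebra.Etale P (Localization.Away g) := {}
  let ε : P →ₐ[A] A := MvPolynomial.aeval fun _ ↦ 0
  have hε : Function.Surjective ε := fun x ↦ ⟨algebraMap A P x, by simp⟩
  let I : Ideal P := RingHom.ker ε
  refine ⟨g, I.map (algebraMap P (Localization.Away g)), hg, ?_, ?_⟩
  · rw [Ideal.map_le_iff_le_comap]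
    intro x hx
    have hcomp : (Ideal.Quotient.mkₐ A (J.map (algebraMap B (Localization.Away g)))).comp φ =
        (Algebra.ofId A _).comp ε := by
      ext i
      have h0 : Ideal.Quotient.mk (J.map (algebraMap B (Localization.Away g)))
          (algebraMap B (Localization.Away g) (a i)) = 0 :=
        Ideal.Quotient.eq_zero_iff_mem.mpr (Ideal.mem_map_of_mem _ (a i).2)
      simpa [φ, ε, P] using h0
    have h1 := DFunLike.congr_fun hcomp x
    have h2 : ε x = 0 := hx
    simp only [AlgHom.coe_comp, Function.comp_apply, h2, map_zero] at h1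
    change φ x ∈ J.map (algebraMap B (Localization.Away g))
    exact Ideal.Quotient.eq_zero_iff_mem.mp h1
  · have e₁ : (P ⧸ I) ≃ₐ[A] A := Ideal.quotientKerAlgEquivOfSurjective hε
    have : Algebra.Etale A (P ⧸ I) := .of_equiv e₁.symm
    have h1 : Algebra.Etale (P ⧸ I) ((P ⧸ I) ⊗[P] Localization.Away g) := inferInstance
    have e₂ := (Algebra.TensorProduct.quotIdealMapEquivQuotTensor (Localization.Away g) I).symm
    have : Algebra.Etale (P ⧸ I) (Localization.Away g ⧸ I.map (algebraMap P (Localization.Away g))) :=
      Algebra.Etale.of_equiv (A := (P ⧸ I) ⊗[P] Localization.Away g) e₂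
    have : IsScalarTower A (P ⧸ I)
        (Localization.Away g ⧸ I.map (algebraMap P (Localization.Away g))) :=
      IsScalarTower.of_algebraMap_eq (R := A) (S := P ⧸ I)
        (A := Localization.Away g ⧸ I.map (algebraMap P (Localization.Away g))) fun x ↦ by
        change Ideal.Quotient.mk _ (algebraMap A (Localization.Away g) x) =
          Ideal.Quotient.mk _ (algebraMap P (Localization.Away g) (algebraMap A P x))
        rw [← IsScalarTower.algebraMap_apply A P (Localization.Away g)]
    exact .comp A (P ⧸ I) _

end K93.SliceSurj
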