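import Groth.Agent.Proet.IndAlg
import Mathlib.CategoryTheory.Presentable.Directed
import Mathlib.Algebra.Category.Ring.FilteredColimits
import Mathlib.CategoryTheory.Limits.ConcreteCategory.Basic

/-!
# Directed systems of algebras from ind-algebras

`exists_system`: if `Λ` is a filtered colimit of `A`-algebras with property `P`, it is the colimit
of a system of such algebras indexed by a directed poset, in elementary terms.
-/

set_option autoImplicit false
universe u

open CategoryTheory CategoryTheory.Limits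

namespace K93.SysDir

open Groth.Agent.Proet

/-- An elementary directed system of `A`-algebras with colimit `Λ`. -/
structure Sys (A Λ : Type u) [CommRing A] [CommRing Λ] [Algebra A Λ] (ι : Type u)
    [PartialOrder ι] (B : ι → Type u) [∀ i, CommRing (B i)] [∀ i, Algebra A (B i)] where
  /-- The transition maps. -/
  t : ∀ i j, i ≤ j → (B i →ₐ[A] B j)
  /-- The maps to the colimit. -/
  u : ∀ i, B i →ₐ[A] Λ
  t_comp : ∀ i j k (hij : i ≤ j) (hjk : j ≤ k) (x : B i),
    t j k hjk (t i j hij x) = t i k (hij.trans hjk) x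
  u_comp : ∀ i j (h : i ≤ j) (x : B i), u j (t i j h x) = u i x
  surj : ∀ a : Λ, ∃ i x, u i x = a
  inj : ∀ i (x : B i), u i x = 0 → ∃ j, ∃ h : i ≤ j, t i j h x = 0

theorem exists_system (P : AlgProp.{u}) (A Λ : Type u) [CommRing A] [CommRing Λ] [Algebra A Λ]
    (h : IndAlg P A Λ) :
    ∃ (ι : Type u) (_ : PartialOrder ι) (_ : IsDirected ι (· ≤ ·)) (_ : Nonempty ι)
      (B : ι → Type u) (_ : ∀ i, CommRing (B i)) (_ : ∀ i, Algebra A (B i)),
      (∀ i, P A (B i)) ∧ Nonempty (Sys A Λ ι B) := by
  obtain ⟨J, _, _, F, c, hc, hF, ⟨e⟩⟩ := h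
  obtain ⟨ι, _, _, _, G, _⟩ := IsFiltered.exists_directed J
  have hc' : IsColimit (c.whisker G) := (Functor.Final.isColimitWhiskerEquiv G c).symm hc
  let H : ι ⥤ Under (CommRingCat.of A) := G ⋙ F
  have hc'' : IsColimit ((Under.forget (CommRingCat.of A)).mapCocone (c.whisker G)) :=
    isColimitOfPreserves (Under.forget (CommRingCat.of A)) hc'
  let alg : ∀ i, Algebra A (H.obj i).right := fun i => (H.obj i).hom.hom.toAlgebra
  have hmap : ∀ i j (h : i ≤ j), (H.map (homOfLE h)).right.hom.comp (H.obj i).hom.hom =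
    (H.obj j).hom.hom := fun i j h => IndAlg.under_w _
  let ct : ∀ i, H.obj i ⟶ Under.mk (CommRingCat.ofHom (algebraMap A Λ)) := fun i =>
    c.ι.app (G.obj i) ≫ e.hom
  have hct : ∀ i, (ct i).right.hom.comp (H.obj i).hom.hom = algebraMap A Λ := fun i =>
    IndAlg.under_w (ct i)
  have hctc : ∀ i j (h : i ≤ j), H.map (homOfLE h) ≫ ct j = ct i := by
    intro i j h
    have h1 : H.map (homOfLE h) ≫ c.ι.app (G.obj j) = c.ι.app (G.obj i) :=
      c.w (G.map (homOfLE h))
    simp only [ct, ← Category.assoc, h1]
  refine ⟨ι, inferInstance, inferInstance, inferInstance, fun i => (H.obj i).right,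
    fun i => inferInstance, alg, fun i => hF _, ⟨?_⟩⟩
  refine
    { t := fun i j h => IndAlg.mkAlgHom (Z := (H.obj i).right) (W := (H.obj j).right)
        (H.map (homOfLE h)).right.hom (hmap i j h)
      u := fun i => IndAlg.mkAlgHom (Z := (H.obj i).right) (W := Λ) (ct i).right.hom (hct i)
      t_comp := ?_
      u_comp := ?_
      surj := ?_
      inj := ?_ }
  · intro i j k hij hjk x
    have h1 : H.map (homOfLE (hij.trans hjk)) = H.map (homOfLE hij) ≫ H.map (homOfLE hjk) := by
      rw [← H.map_comp]
      rfl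
    change (H.map (homOfLE hjk)).right.hom ((H.map (homOfLE hij)).right.hom x) =
      (H.map (homOfLE (hij.trans hjk))).right.hom x
    rw [h1]
    rfl
  · intro i j h x
    change (ct j).right.hom ((H.map (homOfLE h)).right.hom x) = (ct i).right.hom x
    rw [← hctc i j h]
    rfl
  · intro a
    obtain ⟨i, x, hx⟩ := Concrete.isColimit_exists_rep _ hc'' (e.inv.right.hom a)
    refine ⟨i, x, ?_⟩
    change e.hom.right.hom ((c.ι.app (G.obj i)).right.hom x) = a
    have hx' : (c.ι.app (G.obj i)).right.hom x = e.inv.right.hom a := hx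
    rw [hx']
    have h1 := congrArg CommaMorphism.right e.inv_hom_id
    exact congr($(h1).hom a)
  · intro i x hx
    have hx1 : e.hom.right.hom ((c.ι.app (G.obj i)).right.hom x) = 0 := hx
    have hx2 : (c.ι.app (G.obj i)).right.hom x = 0 := by
      have h1 := congrArg CommaMorphism.right e.hom_inv_id
      have h2 : e.inv.right.hom (e.hom.right.hom ((c.ι.app (G.obj i)).right.hom x)) =
        (c.ι.app (G.obj i)).right.hom x := congr($(h1).hom ((c.ι.app (G.obj i)).right.hom x))
      rw [← h2, hx1, map_zero]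
    have hx3 : ((Under.forget (CommRingCat.of A)).mapCocone (c.whisker G)).ι.app i x =
        ((Under.forget (CommRingCat.of A)).mapCocone (c.whisker G)).ι.app i
          (0 : (H.obj i).right) := by
      change (c.ι.app (G.obj i)).right.hom x = (c.ι.app (G.obj i)).right.hom 0
      rw [hx2, map_zero]
    obtain ⟨j, f, g, hfg⟩ := Concrete.isColimit_exists_of_rep_eq _ hc'' x (0 : (H.obj i).right) hx3
    refine ⟨j, leOfHom f, ?_⟩
    change (H.map (homOfLE (leOfHom f))).right.hom x = 0
    have h3 : (H.map f).right.hom x = (H.map g).right.hom 0 := hfg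
    rw [map_zero] at h3
    have h4 : homOfLE (leOfHom f) = f := rfl
    rw [h4, h3]

end K93.SysDir
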