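import Groth.Agent.CAlg.K93.SysDir
import Mathlib.RingTheory.FinitePresentation

/-!
# Finitely presented algebras mapping to a directed colimit
-/

set_option autoImplicit false
universe u

namespace K93.SysFactor

open K93.SysDir MvPolynomial

variable {A Λ : Type u} [CommRing A] [CommRing Λ] [Algebra A Λ] {ι : Type u}
    [PartialOrder ι] [IsDirected ι (· ≤ ·)] {B : ι → Type u} [∀ i, CommRing (B i)]
    [∀ i, Algebra A (B i)] (D : Sys A Λ ι B)

/-- Finitely many elements of the colimit lift to a common stage. -/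
theorem exists_lift_fin (i : ι) (n : ℕ) (a : Fin n → Λ) :
    ∃ j, ∃ _ : i ≤ j, ∃ b : Fin n → B j, ∀ k, D.u j (b k) = a k := by
  induction n with
  | zero => exact ⟨i, le_rfl, Fin.elim0, fun k => k.elim0⟩
  | succ n ih =>
    obtain ⟨j, hij, b, hb⟩ := ih (fun k => a k.castSucc)
    obtain ⟨l, y, hy⟩ := D.surj (a (Fin.last n))
    obtain ⟨m, hjm, hlm⟩ := exists_ge_ge j l
    refine ⟨m, hij.trans hjm,
      Fin.snoc (α := fun _ => B m) (fun k => D.t j m hjm (b k)) (D.t l m hlm y), fun k => ?_⟩
    refine Fin.lastCases ?_ (fun k => ?_) k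
    · rw [Fin.snoc_last, D.u_comp, hy]
    · rw [Fin.snoc_castSucc, D.u_comp, hb]

/-- Finitely many elements vanishing in the colimit vanish at a common stage. -/
theorem exists_kill (i : ι) (T : Finset (B i)) (hT : ∀ x ∈ T, D.u i x = 0) :
    ∃ j, ∃ h : i ≤ j, ∀ x ∈ T, D.t i j h x = 0 := by
  classical
  induction T using Finset.induction_on with
  | empty => exact ⟨i, le_rfl, by simp⟩
  | insert x T hx ih =>
    obtain ⟨j, h, hj⟩ := ih fun y hy => hT y (Finset.mem_insert_of_mem hy)
    obtain ⟨l, h', hl⟩ := D.inj i x (hT x (Finset.mem_insert_self _ _))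
    obtain ⟨m, hjm, hlm⟩ := exists_ge_ge j l
    refine ⟨m, h.trans hjm, fun y hy => ?_⟩
    rcases Finset.mem_insert.1 hy with rfl | hy
    · have : D.t i m (h.trans hjm) y = D.t l m hlm (D.t i l h' y) := (D.t_comp _ _ _ _ _ _).symm
      rw [this, hl, map_zero]
    · rw [← D.t_comp i j m h hjm, hj y hy, map_zero]

/-- A map from a finitely presented `B i`-algebra to the colimit factors through a stage. -/
theorem exists_factor (i : ι) (Z : Type u) [CommRing Z] [Algebra (B i) Z]
    (hZ : Algebra.FinitePresentation (B i) Z) (f : Z →+* Λ)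
    (hf : ∀ b, f (algebraMap (B i) Z b) = D.u i b) :
    ∃ j, ∃ h : i ≤ j, ∃ g : Z →+* B j, (∀ b, g (algebraMap (B i) Z b) = D.t i j h b) ∧
      ∀ z, D.u j (g z) = f z := by
  classical
  obtain ⟨n, p, hp, ⟨T, hT⟩⟩ := hZ.out
  obtain ⟨j, hij, b, hb⟩ := exists_lift_fin D i n fun k => f (p (X k))
  let e : MvPolynomial (Fin n) (B i) →+* B j := eval₂Hom (D.t i j hij).toRingHom b
  have he : ∀ x, D.u j (e x) = f (p x) := by
    have h1 : (D.u j).toRingHom.comp e = f.comp p.toRingHom := by
      refine MvPolynomial.ringHom_ext (fun x => ?_) (fun k => ?_)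
      · change D.u j (e (C x)) = f (p (C x))
        have h2 : e (C x) = D.t i j hij x := eval₂_C _ _ _
        rw [h2, D.u_comp, ← hf]
        congr 1
        exact (p.commutes x).symm
      · change D.u j (e (X k)) = f (p (X k))
        have h2 : e (X k) = b k := eval₂_X _ _ _
        rw [h2, hb]
    exact fun x => congr($h1 x)
  obtain ⟨l, hjl, hl⟩ := exists_kill D j (Finset.image e T) (fun x hx => by
    obtain ⟨y, hy, rfl⟩ := Finset.mem_image.1 hx
    have h2 : p y = 0 := by
      have : y ∈ RingHom.ker p.toRingHom := by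
        rw [← hT]; exact Ideal.subset_span hy
      exact this
    rw [he, h2, map_zero])
  let e' : MvPolynomial (Fin n) (B i) →+* B l := (D.t j l hjl).toRingHom.comp e
  have hker : RingHom.ker p.toRingHom ≤ RingHom.ker e' := by
    rw [← hT, Ideal.span_le]
    intro y hy
    exact hl (e y) (Finset.mem_image_of_mem _ hy)
  let g : Z →+* B l := RingHom.liftOfSurjective p.toRingHom hp ⟨e', hker⟩
  have hg : ∀ x, g (p x) = e' x := fun x =>
    RingHom.liftOfRightInverse_comp_apply _ _ (Function.rightInverse_surjInv hp) ⟨e', hker⟩ x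
  refine ⟨l, hij.trans hjl, g, fun x => ?_, fun z => ?_⟩
  · rw [← p.commutes, hg]
    change D.t j l hjl (e (C x)) = _
    have h2 : e (C x) = D.t i j hij x := eval₂_C _ _ _
    rw [h2, D.t_comp]
  · obtain ⟨y, rfl⟩ := hp z
    rw [hg]
    change D.u l (D.t j l hjl (e y)) = _
    rw [D.u_comp, he]

end K93.SysFactor
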