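import Groth.Prelude.Def_CAlg
import Mathlib.LinearAlgebra.Dual.Defs
import Mathlib.Algebra.Module.LocalizedModule.Basic
import Mathlib.Algebra.Module.FinitePresentation
import Mathlib.RingTheory.Localization.AtPrime.Basic
import Mathlib.RingTheory.KrullDimension.Basic
import Mathlib.RingTheory.KrullDimension.NonZeroDivisors
import Mathlib.RingTheory.KrullDimension.Zero
import Mathlib.RingTheory.Ideal.AssociatedPrime.Finiteness
import Mathlib.RingTheory.Ideal.AssociatedPrime.Localization
import Mathlib.RingTheory.Nilpotent.Defs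

/-! The trace ideal of a reflexive module whose endomorphism ring is the base ring, in dimension
at most one. -/

set_option autoImplicit false
universe u v

namespace K93.TraceIdeal

variable {S : Type u} [CommRing S]

/-- An ideal of a Noetherian ring with zero annihilator contains a non-zero-divisor. -/
lemma exists_nzd [IsNoetherianRing S] (T : Ideal S) (hT : ∀ s : S, (∀ t ∈ T, s * t = 0) → s = 0) :
    ∃ a ∈ T, a ∈ nonZeroDivisors S := by
  by_contra hcon
  push Not at hcon
  have h1 : (T : Set S) ⊆ ⋃ p ∈ associatedPrimes S S, (p : Set S) := by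
    rw [biUnion_associatedPrimes_eq_compl_nonZeroDivisors]
    intro x hx
    exact hcon x hx
  rw [Ideal.subset_union_prime_finite (associatedPrimes.finite S S) ⊥ ⊥
    (fun i hi _ _ => IsAssociatedPrime.isPrime hi)] at h1
  obtain ⟨p, hp, hTp⟩ := h1
  obtain ⟨hp1, x, hx⟩ := isAssociatedPrime_iff.1 hp
  have hx0 : x = 0 := by
    apply hT
    intro t ht
    have h2 := hTp ht
    rw [hx] at h2
    have h3 : t • x = 0 := by simpa using h2
    rw [mul_comm]
    exact h3
  apply hp1.ne_top
  rw [hx, hx0]
  ext y
  simp

/-- In a Noetherian ring of dimension at most one, if `a` is a non-zero-divisor in a proper ideal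
`T`, then some `b ∉ (a)` is such that `b T ⊆ (a)`. -/
lemma exists_colon [IsNoetherianRing S] (hdim : ringKrullDim S ≤ 1) (T : Ideal S) (hT : T ≠ ⊤)
    (a : S) (haT : a ∈ T) (ha : a ∈ nonZeroDivisors S) :
    ∃ b : S, b ∉ Ideal.span {a} ∧ ∀ t ∈ T, b * t ∈ Ideal.span {a} := by
  obtain ⟨𝔪, h𝔪, hT𝔪⟩ := Ideal.exists_le_maximal T hT
  have ha𝔪 : a ∈ 𝔪 := hT𝔪 haT
  have hle : Ideal.span {a} ≤ 𝔪 := (Ideal.span_singleton_le_iff_mem 𝔪).2 ha𝔪
  have hntop : Ideal.span {a} ≠ ⊤ := fun h => h𝔪.ne_top (top_le_iff.1 (h ▸ hle))
  have hd := ringKrullDim_quotient_succ_le_of_nonZeroDivisor ha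
  have hnt : Nontrivial (S ⧸ Ideal.span {a}) := Ideal.Quotient.nontrivial_iff.2 hntop
  have hd0 : Ring.KrullDimLE 0 (S ⧸ Ideal.span {a}) := by
    rw [Ring.krullDimLE_iff]
    have h1 := hd.trans hdim
    have h2 : ringKrullDim (S ⧸ Ideal.span {a}) + 1 ≤ 0 + 1 := by rwa [zero_add]
    have h3 : ringKrullDim (S ⧸ Ideal.span {a}) ≠ ⊤ := by
      intro h
      rw [h] at h1
      exact absurd h1 (by decide)
    revert h2 h3
    have h4 : 0 ≤ ringKrullDim (S ⧸ Ideal.span {a}) := ringKrullDim_nonneg_of_nontrivial
    generalize ringKrullDim (S ⧸ Ideal.span {a}) = x at h4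
    intro h2 h3
    induction x with
    | bot => exact absurd h4 (by decide)
    | coe x =>
      induction x with
      | top => exact absurd rfl h3
      | coe x =>
        have : x + 1 ≤ 0 + 1 := by exact_mod_cast h2
        have : x ≤ 0 := by omega
        exact_mod_cast this
  have hmin : 𝔪 ∈ (Ideal.span {a}).minimalPrimes := by
    refine ⟨⟨h𝔪.isPrime, hle⟩, ?_⟩
    rintro q ⟨hq, haq⟩ hq𝔪
    have hqq : (q.map (Ideal.Quotient.mk (Ideal.span {a}))).IsPrime :=
      Ideal.map_isPrime_of_surjective Ideal.Quotient.mk_surjective (by simpa using haq)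
    have hmax := Ring.krullDimLE_zero_iff.1 hd0 _ hqq
    have hcomap : (q.map (Ideal.Quotient.mk (Ideal.span {a}))).comap (Ideal.Quotient.mk (Ideal.span {a})) = q := by
      rw [Ideal.comap_map_of_surjective _ Ideal.Quotient.mk_surjective]
      rw [sup_eq_left]
      intro x hx
      apply haq
      simpa [Ideal.Quotient.eq_zero_iff_mem] using hx
    have hqmax : q.IsMaximal := by
      rw [← hcomap]
      exact Ideal.comap_isMaximal_of_surjective _ Ideal.Quotient.mk_surjective
    exact (hqmax.eq_of_le h𝔪.ne_top hq𝔪).ge
  have hass : 𝔪 ∈ associatedPrimes S (S ⧸ Ideal.span {a}) := by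
    apply Module.associatedPrimes.minimalPrimes_annihilator_subset_associatedPrimes
    rwa [Ideal.annihilator_quotient]
  obtain ⟨-, x, hx⟩ := isAssociatedPrime_iff.1 hass
  obtain ⟨b, rfl⟩ := Ideal.Quotient.mk_surjective x
  refine ⟨b, ?_, ?_⟩
  · intro hb
    rw [← Ideal.Quotient.eq_zero_iff_mem] at hb
    apply h𝔪.ne_top
    rw [hx, hb]
    ext y
    simp
  · intro t ht
    have h1 := hT𝔪 ht
    rw [hx] at h1
    have h2 : t • (Ideal.Quotient.mk (Ideal.span {a}) b) = 0 := by simpa using h1
    rw [← Ideal.Quotient.eq_zero_iff_mem, mul_comm]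
    exact h2

variable (M : Type v) [AddCommGroup M] [Module S M]

/-- The trace ideal. -/
def traceIdeal : Ideal S := Ideal.span {s | ∃ (f : Module.Dual S M) (m : M), f m = s}

theorem traceIdeal_eq_top [IsNoetherianRing S] (hdim : ringKrullDim S ≤ 1)
    [Module.IsReflexive S M] (h : Function.Bijective (algebraMap S (Module.End S M))) :
    traceIdeal (S := S) M = ⊤ := by
  by_contra hne
  have hT : ∀ s : S, (∀ t ∈ traceIdeal (S := S) M, s * t = 0) → s = 0 := by
    intro s hs
    apply h.1
    rw [map_zero]
    ext m
    apply (Module.bijective_dual_eval S M).1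
    ext f
    change f (s • m) = (Module.Dual.eval S M 0) f
    rw [map_smul, smul_eq_mul, map_zero, hs _ (Ideal.subset_span ⟨f, m, rfl⟩)]
    rfl
  obtain ⟨a, haT, ha⟩ := exists_nzd _ hT
  obtain ⟨b, hb, hbT⟩ := exists_colon hdim _ hne a haT ha
  have key : ∀ (m : M) (f : Module.Dual S M), ∃ c : S, a * c = b * f m := by
    intro m f
    obtain ⟨c, hc⟩ := Ideal.mem_span_singleton'.1 (hbT _ (Ideal.subset_span ⟨f, m, rfl⟩))
    exact ⟨c, by rw [mul_comm, hc]⟩
  choose h' hh' using key
  have hcancel : ∀ x y : S, a * x = a * y → x = y := fun x y hxy =>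
    (mul_cancel_left_mem_nonZeroDivisors ha).1 hxy
  let Φ : M →ₗ[S] Module.Dual S (Module.Dual S M) :=
    { toFun := fun m =>
        { toFun := fun f => h' m f
          map_add' := fun f g => by
            apply hcancel
            rw [mul_add, hh', hh', hh', LinearMap.add_apply, mul_add]
          map_smul' := fun c f => by
            apply hcancel
            rw [hh', RingHom.id_apply, smul_eq_mul, mul_left_comm, hh', LinearMap.smul_apply,
              smul_eq_mul]
            ring }
      map_add' := fun m n => by
        ext f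
        change h' (m + n) f = h' m f + h' n f
        apply hcancel
        rw [mul_add, hh', hh', hh', map_add, mul_add]
      map_smul' := fun c m => by
        ext f
        change h' (c • m) f = c * h' m f
        apply hcancel
        rw [hh', mul_left_comm, hh', map_smul, smul_eq_mul]
        ring }
  let φ : M →ₗ[S] M := (Module.evalEquiv S M).symm.toLinearMap ∘ₗ Φ
  have hφ : ∀ m (f : Module.Dual S M), f (φ m) = h' m f := by
    intro m f
    have : Module.Dual.eval S M (φ m) = Φ m := by
      change Module.evalEquiv S M ((Module.evalEquiv S M).symm (Φ m)) = Φ m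
      rw [LinearEquiv.apply_symm_apply]
    rw [← Module.Dual.eval_apply S M, this]
    rfl
  obtain ⟨c, hc⟩ := h.2 φ
  have hac : a * c - b = 0 := by
    apply hT
    intro t ht
    unfold traceIdeal at ht
    induction ht using Submodule.span_induction with
    | mem x hx =>
      obtain ⟨f, m, rfl⟩ := hx
      have h1 := hφ m f
      rw [← hc] at h1
      change f (c • m) = _ at h1
      rw [map_smul, smul_eq_mul] at h1
      rw [sub_mul, mul_assoc, h1, hh', sub_self]
    | zero => rw [mul_zero]
    | add x y _ _ hx hy => rw [mul_add, hx, hy, add_zero]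
    | smul r x _ hx => rw [smul_eq_mul, mul_left_comm, hx, mul_zero]
  apply hb
  rw [← sub_eq_zero.1 hac]
  exact Ideal.mul_mem_right _ _ (Ideal.mem_span_singleton_self a)

/-- If the trace ideal is everything and the endomorphism ring is the base ring, the module is
locally free of rank one. -/
theorem nonempty_localized_equiv (hT : traceIdeal (S := S) M = ⊤)
    (h : Function.Surjective (algebraMap S (Module.End S M))) (P : Ideal S) [hP : P.IsPrime] :
    Nonempty (LocalizedModule P.primeCompl M ≃ₗ[Localization.AtPrime P] Localization.AtPrime P) := by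
  have : ∃ (f : Module.Dual S M) (m : M), f m ∉ P := by
    by_contra hcon
    push Not at hcon
    apply hP.ne_top
    rw [← top_le_iff, ← hT, traceIdeal, Ideal.span_le]
    rintro _ ⟨f, m, rfl⟩
    exact hcon f m
  obtain ⟨f, m, hfm⟩ := this
  obtain ⟨c, hc⟩ := h (f.smulRight m)
  have hc' : ∀ x, f x • m = c • x := fun x => (LinearMap.congr_fun hc x).symm
  have hu : f m * f m = c * f m := by
    have := congrArg f (hc' m)
    rwa [map_smul, map_smul, smul_eq_mul, smul_eq_mul] at this
  let F : LocalizedModule P.primeCompl M →ₗ[Localization.AtPrime P] Localization.AtPrime P :=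
    IsLocalizedModule.mapExtendScalars P.primeCompl (LocalizedModule.mkLinearMap P.primeCompl M)
      (Algebra.linearMap S (Localization.AtPrime P)) (Localization.AtPrime P) f
  have hF : ∀ x : M, F (LocalizedModule.mkLinearMap P.primeCompl M x) =
      algebraMap S (Localization.AtPrime P) (f x) := fun x =>
    IsLocalizedModule.map_apply P.primeCompl (LocalizedModule.mkLinearMap P.primeCompl M)
      (Algebra.linearMap S (Localization.AtPrime P)) f x
  refine ⟨LinearEquiv.ofBijective F ⟨?_, ?_⟩⟩
  · rw [injective_iff_map_eq_zero]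
    intro x hx
    obtain ⟨⟨y, s⟩, hys⟩ := IsLocalizedModule.surj P.primeCompl
      (LocalizedModule.mkLinearMap P.primeCompl M) x
    have hys' : (s : S) • x = LocalizedModule.mkLinearMap P.primeCompl M y := hys
    have h1 : algebraMap S (Localization.AtPrime P) (f y) = 0 := by
      rw [← hF, ← hys', ← algebraMap_smul (Localization.AtPrime P) (s : S) x, map_smul, hx,
        smul_zero]
    obtain ⟨t, ht⟩ := (IsLocalization.map_eq_zero_iff P.primeCompl _ _).1 h1
    have h2 : (t : S) • c • y = 0 := by
      rw [← hc', ← mul_smul, ht, zero_smul]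
    have h3 : ((t : S) * (f m * f m)) • y = 0 := by
      have h7 : (t : S) * (f m * f m) = f m * (t * c) := by rw [hu]; ring
      rw [h7, mul_smul, mul_smul (t : S), h2, smul_zero]
    have h4 : (t : S) * (f m * f m) ∈ P.primeCompl :=
      P.primeCompl.mul_mem t.2 (P.primeCompl.mul_mem hfm hfm)
    have h5 : LocalizedModule.mkLinearMap P.primeCompl M y = 0 := by
      rw [← map_zero (LocalizedModule.mkLinearMap P.primeCompl M),
        IsLocalizedModule.eq_iff_exists P.primeCompl]
      exact ⟨⟨_, h4⟩, by rw [smul_zero]; exact h3⟩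
    rw [h5] at hys'
    have h6 : IsUnit (algebraMap S (Localization.AtPrime P) (s : S)) :=
      IsLocalization.map_units _ s
    rw [← algebraMap_smul (Localization.AtPrime P) (s : S) x] at hys'
    exact (h6.smul_eq_zero).1 hys'
  · intro r
    have h6 : IsUnit (algebraMap S (Localization.AtPrime P) (f m)) :=
      IsLocalization.map_units (Localization.AtPrime P) (⟨f m, hfm⟩ : P.primeCompl)
    obtain ⟨w, hw⟩ := h6.exists_left_inv
    refine ⟨(r * w) • LocalizedModule.mkLinearMap P.primeCompl M m, ?_⟩
    rw [map_smul, hF, smul_eq_mul, mul_assoc, hw, mul_one]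

/-- A finite module which is locally free of rank one has the base ring as endomorphism ring. -/
theorem bijective_of_localized [Module.Finite S M]
    (h : ∀ (P : Ideal S) (_ : P.IsPrime),
      Nonempty (LocalizedModule P.primeCompl M ≃ₗ[Localization.AtPrime P] Localization.AtPrime P)) :
    Function.Bijective (algebraMap S (Module.End S M)) := by
  constructor
  · rw [injective_iff_map_eq_zero]
    intro s hs
    have hsM : ∀ x : M, s • x = 0 := fun x => LinearMap.congr_fun hs x
    by_contra hs0
    have hne : LinearMap.ker (LinearMap.toSpanSingleton S S s) ≠ ⊤ := by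
      intro htop
      apply hs0
      have : (1 : S) ∈ LinearMap.ker (LinearMap.toSpanSingleton S S s) := by rw [htop]; trivial
      simpa using this
    obtain ⟨P, hP, hle⟩ := Ideal.exists_le_maximal _ hne
    obtain ⟨e⟩ := h P hP.isPrime
    have h1 : algebraMap S (Localization.AtPrime P) s = 0 := by
      have h2 : (algebraMap S (Localization.AtPrime P) s) • e.symm 1 = 0 := by
        obtain ⟨⟨y, t⟩, hyt⟩ := IsLocalizedModule.surj P.primeCompl
          (LocalizedModule.mkLinearMap P.primeCompl M) (e.symm 1)
        have hyt' : (t : S) • e.symm 1 = LocalizedModule.mkLinearMap P.primeCompl M y := hyt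
        have h6 : IsUnit (algebraMap S (Localization.AtPrime P) (t : S)) :=
          IsLocalization.map_units _ t
        rw [← h6.smul_eq_zero, algebraMap_smul, algebraMap_smul, smul_comm, hyt', ← map_smul, hsM,
          map_zero]
      have h3 := congrArg e h2
      rwa [map_smul, LinearEquiv.apply_symm_apply, map_zero, smul_eq_mul, mul_one] at h3
    obtain ⟨t, ht⟩ := (IsLocalization.map_eq_zero_iff P.primeCompl _ _).1 h1
    apply t.2
    apply hle
    simpa using ht
  · intro φ
    by_contra hcon
    let J : Ideal S :=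
      { carrier := {s | ∃ c : S, s • φ = algebraMap S (Module.End S M) c}
        add_mem' := by
          rintro a b ⟨c, hc⟩ ⟨d, hd⟩
          exact ⟨c + d, by rw [add_smul, hc, hd, map_add]⟩
        zero_mem' := ⟨0, by rw [zero_smul, map_zero]⟩
        smul_mem' := by
          rintro r a ⟨c, hc⟩
          exact ⟨r * c, by rw [smul_eq_mul, mul_smul, hc, map_mul, ← Algebra.smul_def]⟩ }
    have hJ : J ≠ ⊤ := by
      intro hJ
      have : (1 : S) ∈ J := by rw [hJ]; trivial
      obtain ⟨c, hc⟩ := this
      exact hcon ⟨c, by rw [← hc, one_smul]⟩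
    obtain ⟨P, hP, hle⟩ := Ideal.exists_le_maximal _ hJ
    obtain ⟨e⟩ := h P hP.isPrime
    let A := Localization.AtPrime P
    let φP : LocalizedModule P.primeCompl M →ₗ[A] LocalizedModule P.primeCompl M :=
      LocalizedModule.map P.primeCompl φ
    have hφP : ∀ x, φP (LocalizedModule.mkLinearMap P.primeCompl M x) =
        LocalizedModule.mkLinearMap P.primeCompl M (φ x) := by
      intro x
      change LocalizedModule.map P.primeCompl φ (LocalizedModule.mk x 1) = LocalizedModule.mk (φ x) 1
      rw [LocalizedModule.map_mk]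
    have hall : ∀ w, φP w = e (φP (e.symm 1)) • w := by
      intro w
      have hw : w = e w • e.symm 1 := by
        apply e.injective
        rw [map_smul, e.apply_symm_apply, smul_eq_mul, mul_one]
      conv_lhs => rw [hw]
      rw [map_smul]
      apply e.injective
      rw [map_smul, map_smul, smul_eq_mul, smul_eq_mul, mul_comm]
    obtain ⟨⟨c, s⟩, hcs⟩ := IsLocalization.surj P.primeCompl (e (φP (e.symm 1)))
    have hcs' : e (φP (e.symm 1)) * algebraMap S A s = algebraMap S A c := hcs
    have hcomp : (LocalizedModule.mkLinearMap P.primeCompl M).comp ((s : S) • φ) =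
        (LocalizedModule.mkLinearMap P.primeCompl M).comp (algebraMap S (Module.End S M) c) := by
      ext x
      change LocalizedModule.mkLinearMap P.primeCompl M ((s : S) • φ x) =
        LocalizedModule.mkLinearMap P.primeCompl M (c • x)
      rw [map_smul, ← hφP, hall, map_smul, ← algebraMap_smul A (s : S), ← mul_smul, mul_comm, hcs',
        algebraMap_smul]
    obtain ⟨t, ht⟩ := Module.Finite.exists_smul_of_comp_eq_of_isLocalizedModule P.primeCompl
      (LocalizedModule.mkLinearMap P.primeCompl M) _ _ hcomp
    have hmem : (t : S) * s ∈ J := by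
      refine ⟨t * c, ?_⟩
      rw [mul_smul, map_mul, ← Algebra.smul_def]
      exact ht
    exact (P.primeCompl.mul_mem t.2 s.2) (hle hmem)

end K93.TraceIdeal
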