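import Mathlib.RingTheory.WittVector.Defs
import Mathlib.RingTheory.WittVector.Basic
import Mathlib.RingTheory.MvPolynomial.WeightedHomogeneous
import Mathlib.Algebra.Module.Submodule.Basic

/-! Weighted homogeneity of the Witt structure polynomials. -/

set_option autoImplicit false
universe u v

namespace K93.WittHom

open MvPolynomial

variable {σ : Type*}

lemma of_C_mul {R : Type*} [CommRing R] [IsDomain R] (w : σ → ℕ) (a : R) (ha : a ≠ 0)
    (φ : MvPolynomial σ R) (m : ℕ) (h : IsWeightedHomogeneous w (C a * φ) m) :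
    IsWeightedHomogeneous w φ m := by
  intro d hd
  apply h
  rw [coeff_C_mul]
  exact mul_ne_zero ha hd

/-- The Witt structure polynomials of `Φ` are weighted homogeneous of degree `p ^ n` as soon as the
ghost-side polynomials are. -/
theorem isWeightedHomogeneous_wittStructureInt {idx : Type*} (p : ℕ) [hp : Fact p.Prime]
    (Φ : MvPolynomial idx ℤ) (w : idx × ℕ → ℕ)
    (h : ∀ n, IsWeightedHomogeneous w
      (bind₁ (fun i => rename (Prod.mk i) (wittPolynomial p ℤ n)) Φ) (p ^ n)) (n : ℕ) :
    IsWeightedHomogeneous w (wittStructureInt p Φ n) (p ^ n) := by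
  induction n using Nat.strong_induction_on with
  | _ n ih =>
    have h0 : bind₁ (wittStructureInt p Φ) (wittPolynomial p ℤ n) =
        ∑ i ∈ Finset.range n, C ((p : ℤ) ^ i) * (wittStructureInt p Φ i) ^ p ^ (n - i) +
          C ((p : ℤ) ^ n) * wittStructureInt p Φ n := by
      rw [wittPolynomial_eq_sum_C_mul_X_pow, Finset.sum_range_succ, map_add, map_sum]
      simp
    have h2 : C ((p : ℤ) ^ n) * wittStructureInt p Φ n =
        bind₁ (fun i => rename (Prod.mk i) (wittPolynomial p ℤ n)) Φ -
        ∑ i ∈ Finset.range n, C ((p : ℤ) ^ i) * (wittStructureInt p Φ i) ^ p ^ (n - i) := by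
      rw [← wittStructureInt_prop p Φ n, h0]
      ring
    have hp0 : ((p : ℤ) ^ n) ≠ 0 := pow_ne_zero _ (by exact_mod_cast hp.1.ne_zero)
    apply of_C_mul w _ hp0
    rw [h2]
    apply (h n).sub
    apply IsWeightedHomogeneous.sum
    intro i hi
    rw [Finset.mem_range] at hi
    apply IsWeightedHomogeneous.C_mul
    have := (ih i hi).pow (p ^ (n - i))
    rwa [smul_eq_mul, ← pow_add, Nat.sub_add_cancel hi.le] at this

/-- A renamed Witt polynomial is weighted homogeneous. -/
lemma rename_wittPolynomial_hom {idx : Type*} (p : ℕ) (w : idx × ℕ → ℕ) (i : idx)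
    (hw : ∀ n, w (i, n) = p ^ n) (n : ℕ) :
    IsWeightedHomogeneous w (rename (Prod.mk i) (wittPolynomial p ℤ n)) (p ^ n) := by
  rw [wittPolynomial_eq_sum_C_mul_X_pow, map_sum]
  apply IsWeightedHomogeneous.sum
  intro j hj
  rw [Finset.mem_range, Nat.lt_succ_iff] at hj
  rw [map_mul, map_pow (rename (Prod.mk i)) (X j), rename_C, rename_X]
  apply IsWeightedHomogeneous.C_mul
  have := (isWeightedHomogeneous_X ℤ w (i, j)).pow (p ^ (n - j))
  rwa [smul_eq_mul, hw, ← pow_add, Nat.sub_add_cancel hj] at this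

/-- A renamed Witt polynomial is weighted homogeneous of degree 0 if its variables have weight 0. -/
lemma rename_wittPolynomial_hom_zero {idx : Type*} (p : ℕ) (w : idx × ℕ → ℕ) (i : idx)
    (hw : ∀ n, w (i, n) = 0) (n : ℕ) :
    IsWeightedHomogeneous w (rename (Prod.mk i) (wittPolynomial p ℤ n)) 0 := by
  rw [wittPolynomial_eq_sum_C_mul_X_pow, map_sum]
  apply IsWeightedHomogeneous.sum
  intro j hj
  rw [map_mul, map_pow (rename (Prod.mk i)) (X j), rename_C, rename_X]
  apply IsWeightedHomogeneous.C_mul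
  have := (isWeightedHomogeneous_X ℤ w (i, j)).pow (p ^ (n - j))
  rwa [smul_eq_mul, hw, mul_zero] at this

theorem wittAdd_hom (p : ℕ) [Fact p.Prime] (n : ℕ) :
    IsWeightedHomogeneous (fun i : Fin 2 × ℕ => p ^ i.2) (WittVector.wittAdd p n) (p ^ n) := by
  apply isWeightedHomogeneous_wittStructureInt
  intro n
  rw [map_add, bind₁_X_right, bind₁_X_right]
  exact (rename_wittPolynomial_hom p _ 0 (fun _ => rfl) n).add
    (rename_wittPolynomial_hom p _ 1 (fun _ => rfl) n)

theorem wittMul_hom (p : ℕ) [Fact p.Prime] (n : ℕ) :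
    IsWeightedHomogeneous (fun i : Fin 2 × ℕ => if i.1 = 0 then 0 else p ^ i.2)
      (WittVector.wittMul p n) (p ^ n) := by
  apply isWeightedHomogeneous_wittStructureInt
  intro n
  rw [map_mul, bind₁_X_right, bind₁_X_right]
  have := (rename_wittPolynomial_hom_zero p (fun i : Fin 2 × ℕ => if i.1 = 0 then 0 else p ^ i.2) 0
      (fun _ => by simp) n).mul
    (rename_wittPolynomial_hom p (fun i : Fin 2 × ℕ => if i.1 = 0 then 0 else p ^ i.2) 1
      (fun _ => by simp) n)
  rwa [zero_add] at this

/-- Evaluating a weighted homogeneous polynomial at elements of a multiplicative filtration. -/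
theorem aeval_mem_of_hom {A K : Type u} [CommRing A] [CommRing K] [Algebra A K]
    (M : ℕ → Submodule A K) (h1 : (1 : K) ∈ M 0)
    (hmul : ∀ (i j : ℕ) (a b : K), a ∈ M i → b ∈ M j → a * b ∈ M (i + j))
    (w : σ → ℕ) (x : σ → K) (hx : ∀ s, x s ∈ M (w s)) (φ : MvPolynomial σ ℤ) (m : ℕ)
    (hφ : IsWeightedHomogeneous w φ m) : aeval x φ ∈ M m := by
  have hpow : ∀ (s : σ) (k : ℕ), x s ^ k ∈ M (k * w s) := by
    intro s k
    induction k with
    | zero => simpa using h1
    | succ k ih =>
      rw [pow_succ, add_mul, one_mul]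
      exact hmul _ _ _ _ ih (hx s)
  have hprod : ∀ (t : Finset σ) (d : σ → ℕ), ∏ s ∈ t, x s ^ d s ∈ M (∑ s ∈ t, d s * w s) := by
    classical
    intro t d
    induction t using Finset.induction_on with
    | empty => simpa using h1
    | insert a t hat ih =>
      rw [Finset.prod_insert hat, Finset.sum_insert hat]
      exact hmul _ _ _ _ (hpow a _) ih
  rw [aeval_def, eval₂_eq]
  apply Submodule.sum_mem
  intro d hd
  have hw : Finsupp.weight w d = m := hφ (mem_support_iff.1 hd)
  have : ∏ s ∈ d.support, x s ^ d s ∈ M m := by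
    have h := hprod d.support d
    rw [← hw, Finsupp.weight_apply, Finsupp.sum]
    simpa using h
  have h2 : algebraMap ℤ K (coeff d φ) * ∏ s ∈ d.support, x s ^ d s =
      algebraMap A K ((coeff d φ : ℤ) : A) * ∏ s ∈ d.support, x s ^ d s := by
    simp
  rw [h2, ← Algebra.smul_def]
  exact Submodule.smul_mem _ _ this

end K93.WittHom
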