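import Mathlib.RingTheory.WittVector.Teichmuller
import Mathlib.RingTheory.WittVector.Verschiebung
import Mathlib.RingTheory.WittVector.Identities
import Mathlib.RingTheory.WittVector.InitTail
import Mathlib.RingTheory.WittVector.Domain
import Mathlib.Algebra.CharP.Defs
import Mathlib.RingTheory.Ideal.Span
import Mathlib.LinearAlgebra.Span.Defs

/-! Witt vectors over a finite `ℓ`-cyclic extension. -/

set_option autoImplicit false
universe u v

namespace K93.WittSpan

open WittVector

variable {p : ℕ} [hp : Fact p.Prime]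

lemma eq_teich_add_V {R : Type*} [CommRing R] (x : WittVector p R) :
    x = teichmuller p (x.coeff 0) + verschiebung (x.shift 1) := by
  ext n
  rw [coeff_add_of_disjoint]
  · cases n with
    | zero => rw [teichmuller_coeff_zero, verschiebung_coeff_zero, add_zero]
    | succ n =>
      rw [teichmuller_coeff_pos p _ _ (Nat.succ_pos n), verschiebung_coeff_succ, zero_add,
        shift_coeff, add_comm]
  · intro k
    cases k with
    | zero => right; exact verschiebung_coeff_zero _
    | succ k => left; exact teichmuller_coeff_pos p _ _ (Nat.succ_pos k)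

section charp

variable {R : Type*} [CommRing R] [CharP R p]

lemma frob_teich (b : R) : frobenius (teichmuller p b) = teichmuller p (b ^ p) := by
  rw [frobenius_eq_map_frobenius, map_teichmuller, frobenius_def]

lemma iter_frob_teich (b : R) (n : ℕ) :
    (frobenius : WittVector p R →+* WittVector p R)^[n] (teichmuller p b) =
      teichmuller p (b ^ p ^ n) := by
  induction n with
  | zero => simp
  | succ n ih => rw [Function.iterate_succ_apply', ih, frob_teich, ← pow_mul, ← pow_succ]

lemma V_mul_teich (x : WittVector p R) (b : R) :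
    verschiebung x * teichmuller p b = verschiebung (x * teichmuller p (b ^ p)) := by
  rw [← frob_teich, verschiebung_mul_frobenius]

lemma iter_V_mul_teich (x : WittVector p R) (b : R) (n : ℕ) :
    (verschiebung : WittVector p R →+ WittVector p R)^[n] x * teichmuller p b =
      (verschiebung : WittVector p R →+ WittVector p R)^[n] (x * teichmuller p (b ^ p ^ n)) := by
  rw [iterate_verschiebung_mul_left, iter_frob_teich]

end charp

lemma coeff_zero_sum {R : Type*} [CommRing R] {J : Type*} (s : Finset J)
    (f : J → WittVector p R) : (∑ j ∈ s, f j).coeff 0 = ∑ j ∈ s, (f j).coeff 0 := by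
  have : ∀ x : WittVector p R, x.coeff 0 = constantCoeff x := fun x => rfl
  simp_rw [this, map_sum]

/-- If `x = V x₁`, `x₁ = V x₂`, … then `x = 0`. -/
lemma eq_zero_of_forall {R : Type*} [CommRing R] (E : ℕ → WittVector p R)
    (h : ∀ m, E m = verschiebung (E (m + 1))) : E 0 = 0 := by
  have h1 : ∀ n m, (E m).coeff n = 0 := by
    intro n
    induction n with
    | zero => intro m; rw [h]; exact verschiebung_coeff_zero _
    | succ n ih => intro m; rw [h, verschiebung_coeff_succ]; exact ih _
  ext n
  rw [h1, zero_coeff]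

section main

variable {A B : Type u} [CommRing A] [CommRing B] [Algebra A B] [CharP B p]
  {J : Type*} [Fintype J] (y : J → B) {ℓ : ℕ} (z : J → Fin ℓ → B) (c : B) (r : ℕ → Fin ℓ)
  (hy : ∀ b : B, ∃ α : J → A, b = ∑ j, algebraMap A B (α j) * y j)
  (hz : ∀ (m : ℕ) (j : J), ∃ a : A, c ^ p ^ m * y j = algebraMap A B a * z j (r m) ^ p ^ m)

include hy hz in
/-- The key expansion: `[c] η` is a finite `W(A)`-combination of Teichmüller elements. -/
theorem exists_expansion (η : WittVector p B) :
    ∃ x : J → Fin ℓ → WittVector p A,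
      teichmuller p c * η = ∑ j, ∑ i, teichmuller p (z j i) * map (algebraMap A B) (x j i) := by
  classical
  choose a ha using hz
  -- one step of the expansion
  have step : ∀ w : WittVector p B, ∃ (α : J → A) (w' : WittVector p B),
      w = ∑ j, teichmuller p (algebraMap A B (α j) * y j) + verschiebung w' := by
    intro w
    obtain ⟨α, hα⟩ := hy (w.coeff 0)
    refine ⟨α, (w - ∑ j, teichmuller p (algebraMap A B (α j) * y j)).shift 1, ?_⟩
    have h0 : (w - ∑ j, teichmuller p (algebraMap A B (α j) * y j)).coeff 0 = 0 := by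
      have : ∀ x : WittVector p B, x.coeff 0 = constantCoeff x := fun x => rfl
      rw [this, map_sub, ← this, ← this, coeff_zero_sum, hα]
      simp_rw [teichmuller_coeff_zero]
      rw [sub_self]
    have h1 := eq_teich_add_V (w - ∑ j, teichmuller p (algebraMap A B (α j) * y j))
    rw [h0, teichmuller_zero, zero_add] at h1
    rw [← h1]
    ring
  choose α w' hw using step
  let s : ℕ → WittVector p B := fun m => Nat.rec η (fun _ x => w' x) m
  have hs0 : s 0 = η := rfl
  have hs : ∀ m, s m = ∑ j, teichmuller p (algebraMap A B (α (s m) j) * y j) +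
      verschiebung (s (m + 1)) := fun m => hw (s m)
  let x : J → Fin ℓ → WittVector p A := fun j i =>
    WittVector.mk p fun m => if r m = i then α (s m) j * a m j else 0
  refine ⟨x, ?_⟩
  let E : ℕ → WittVector p B := fun m => teichmuller p (c ^ p ^ m) * s m -
    ∑ j, ∑ i, teichmuller p (z j i ^ p ^ m) * map (algebraMap A B) ((x j i).shift m)
  have hE : ∀ m, E m = verschiebung (E (m + 1)) := by
    intro m
    have h1 : teichmuller p (c ^ p ^ m) * s m =
        ∑ j, teichmuller p (c ^ p ^ m * (algebraMap A B (α (s m) j) * y j)) +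
        verschiebung (teichmuller p (c ^ p ^ (m + 1)) * s (m + 1)) := by
      conv_lhs => rw [hs m, mul_add, Finset.mul_sum, mul_comm _ (verschiebung _), V_mul_teich,
        ← pow_mul, ← pow_succ, mul_comm (s (m + 1))]
      simp_rw [← map_mul]
    have h2 : ∀ j i, teichmuller p (z j i ^ p ^ m) * map (algebraMap A B) ((x j i).shift m) =
        teichmuller p (z j i ^ p ^ m * algebraMap A B ((x j i).coeff m)) +
        verschiebung (teichmuller p (z j i ^ p ^ (m + 1)) *
          map (algebraMap A B) ((x j i).shift (m + 1))) := by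
      intro j i
      have h3 : (x j i).shift m = teichmuller p ((x j i).coeff m) +
          verschiebung ((x j i).shift (m + 1)) := by
        conv_lhs => rw [eq_teich_add_V ((x j i).shift m), shift_coeff, add_zero]
        congr 2
        ext k
        rw [shift_coeff, shift_coeff, shift_coeff, add_assoc]
      rw [h3, map_add, map_teichmuller, map_verschiebung, mul_add, ← map_mul,
        mul_comm _ (verschiebung _), V_mul_teich, ← pow_mul, ← pow_succ,
        mul_comm (map (algebraMap A B) _)]
    have h4 : ∀ j, ∑ i, teichmuller p (z j i ^ p ^ m * algebraMap A B ((x j i).coeff m)) =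
        teichmuller p (c ^ p ^ m * (algebraMap A B (α (s m) j) * y j)) := by
      intro j
      rw [Finset.sum_eq_single (r m)]
      · have h5 : (x j (r m)).coeff m = α (s m) j * a m j := by
          change (if r m = r m then _ else _) = _
          rw [if_pos rfl]
        rw [h5, map_mul (algebraMap A B)]
        congr 1
        have := ha m j
        linear_combination (- algebraMap A B (α (s m) j)) * this
      · intro i _ hi
        have h5 : (x j i).coeff m = 0 := by
          change (if r m = i then _ else _) = _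
          rw [if_neg (Ne.symm hi)]
        rw [h5, map_zero, mul_zero, teichmuller_zero]
      · intro h
        exact absurd (Finset.mem_univ _) h
    change teichmuller p (c ^ p ^ m) * s m -
      ∑ j, ∑ i, teichmuller p (z j i ^ p ^ m) * map (algebraMap A B) ((x j i).shift m) = _
    rw [h1]
    simp_rw [h2, Finset.sum_add_distrib, h4]
    rw [add_sub_add_left_eq_sub, map_sub, map_sum]
    simp_rw [map_sum]
  have h0 := eq_zero_of_forall E hE
  have h1 : E 0 = teichmuller p c * η -
      ∑ j, ∑ i, teichmuller p (z j i) * map (algebraMap A B) (x j i) := by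
    change teichmuller p (c ^ p ^ 0) * s 0 - ∑ j, ∑ i, teichmuller p (z j i ^ p ^ 0) *
      map (algebraMap A B) ((x j i).shift 0) = _
    simp only [pow_zero, pow_one, hs0]
    congr 1
    refine Finset.sum_congr rfl fun j _ => Finset.sum_congr rfl fun i _ => ?_
    congr 2
    ext k
    rw [shift_coeff, zero_add]
  rw [h1, sub_eq_zero] at h0
  exact h0

end main

/-- The exponent `r` with `r p ^ m ≡ 1` modulo `ℓ`, `1 ≤ r ≤ ℓ`. -/
lemma exists_exponent (p ℓ : ℕ) (hp : p.Prime) (hℓ : 0 < ℓ) (hpℓ : ¬ p ∣ ℓ) (m : ℕ) :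
    ∃ (r : Fin ℓ) (s : ℕ), ((r : ℕ) + 1) * p ^ m = 1 + ℓ * s ∧ s ≤ p ^ m := by
  have hcop : Nat.Coprime (p ^ m) ℓ := Nat.Coprime.pow_left m ((hp.coprime_iff_not_dvd).2 hpℓ)
  -- choose `r` in `{1, …, ℓ}`
  obtain ⟨r, hr1, hrℓ, hr⟩ : ∃ r : ℕ, 1 ≤ r ∧ r ≤ ℓ ∧ r * p ^ m ≡ 1 [MOD ℓ] := by
    rcases Nat.lt_or_ge 1 ℓ with h1 | h1
    · obtain ⟨k, hkℓ, hk⟩ := Nat.exists_mul_mod_eq_one_of_coprime hcop h1
      refine ⟨k, ?_, hkℓ.le, ?_⟩
      · rcases Nat.eq_zero_or_pos k with rfl | h
        · rw [mul_zero, Nat.zero_mod] at hk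
          exact absurd hk (by decide)
        · exact h
      · rw [mul_comm]
        change _ % _ = _ % _
        rw [hk, Nat.mod_eq_of_lt h1]
    · have : ℓ = 1 := le_antisymm h1 hℓ
      subst this
      exact ⟨1, le_rfl, le_rfl, Nat.modEq_one⟩
  have hpos : 1 ≤ r * p ^ m := Nat.mul_pos hr1 (pow_pos hp.pos m)
  obtain ⟨s, hs⟩ := (Nat.modEq_iff_dvd' hpos).1 hr.symm
  refine ⟨⟨r - 1, by omega⟩, s, ?_, ?_⟩
  · change (r - 1 + 1) * p ^ m = _
    rw [Nat.sub_add_cancel hr1]
    omega
  · have h1 : ℓ * s ≤ ℓ * p ^ m := by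
      calc ℓ * s = r * p ^ m - 1 := hs.symm
        _ ≤ r * p ^ m := Nat.sub_le _ _
        _ ≤ ℓ * p ^ m := Nat.mul_le_mul_right _ hrℓ
    exact Nat.le_of_mul_le_mul_left h1 hℓ

/-- The main statement on ideals. -/
theorem main_span
    (p : ℕ) [Fact p.Prime] (ℓ n : ℕ) (hℓ : 0 < ℓ) (hpℓ : ¬ p ∣ ℓ)
    (A B : Type u) [CommRing A] [CommRing B] [IsDomain A] [IsDomain B] [Algebra A B]
    [CharP A p] [CharP B p] (hinj : Function.Injective (algebraMap A B))
    (y : Finset B) (hspan : Submodule.span A (y : Set B) = ⊤)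
    (hpow : ∀ b ∈ y, b ^ ℓ ∈ Set.range (algebraMap A B))
    (η : WittVector p B) :
    ∃ a : A, a ≠ 0 ∧ WittVector.teichmuller p (algebraMap A B a) *
        ((⇑(WittVector.verschiebung : WittVector p B →+ WittVector p B))^[n] η) ∈
      Ideal.span (Set.range (fun x : WittVector p A =>
        WittVector.map (algebraMap A B)
          ((⇑(WittVector.verschiebung : WittVector p A →+ WittVector p A))^[n] x))) := by
  classical
  -- the elements `b j` of `A`
  choose b hb using hpow
  let J := y
  let b' : J → A := fun j => b j.1 j.2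
  have hb' : ∀ j : J, algebraMap A B (b' j) = (j : B) ^ ℓ := fun j => hb j.1 j.2
  let d : J → A := fun j => if b' j = 0 then 1 else b' j
  have hd : ∀ j, d j ≠ 0 := by
    intro j
    by_cases h : b' j = 0
    · simp only [d, if_pos h]; exact one_ne_zero
    · simp only [d, if_neg h]; exact h
  let c₀ : A := ∏ j, d j
  have hc₀ : c₀ ≠ 0 := Finset.prod_ne_zero_iff.2 fun j _ => hd j
  let c : B := algebraMap A B c₀
  let z : J → Fin ℓ → B := fun j i => (j : B) ^ ((i : ℕ) + 1)
  choose r s hrs hs using exists_exponent p ℓ Fact.out hℓ hpℓ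
  have hz : ∀ (m : ℕ) (j : J), ∃ a : A, c ^ p ^ m * (j : B) =
      algebraMap A B a * z j (r m) ^ p ^ m := by
    intro m j
    have hzj : z j (r m) ^ p ^ m = (j : B) * algebraMap A B (b' j) ^ s m := by
      change ((j : B) ^ _) ^ _ = _
      rw [← pow_mul, hrs, hb', ← pow_mul, pow_add, pow_one]
    rw [hzj]
    by_cases h : b' j = 0
    · have hj0 : (j : B) = 0 := by
        have := hb' j
        rw [h, map_zero] at this
        exact pow_eq_zero_iff hℓ.ne' |>.1 this.symm
      exact ⟨0, by rw [hj0]; simp⟩
    · have hdj : d j = b' j := by simp only [d, if_neg h]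
      refine ⟨(∏ i ∈ Finset.univ.erase j, d i) ^ p ^ m * b' j ^ (p ^ m - s m), ?_⟩
      have h1 : c₀ = b' j * ∏ i ∈ Finset.univ.erase j, d i := by
        rw [← hdj]
        exact (Finset.mul_prod_erase Finset.univ d (Finset.mem_univ j)).symm
      have h2 : b' j ^ p ^ m = b' j ^ (p ^ m - s m) * b' j ^ s m := by
        rw [← pow_add, Nat.sub_add_cancel (hs m)]
      change (algebraMap A B c₀) ^ p ^ m * (j : B) = _
      rw [← map_pow, h1, mul_pow, h2]
      simp only [map_mul, map_pow]
      ring
  have hy : ∀ x : B, ∃ α : J → A, x = ∑ j, algebraMap A B (α j) * (j : B) := by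
    intro x
    have hx : x ∈ Submodule.span A (Set.range (fun j : J => (j : B))) := by
      have h : Set.range (fun j : J => (j : B)) = (y : Set B) := by
        ext t
        simp [J]
      rw [h, hspan]
      trivial
    rw [Submodule.mem_span_range_iff_exists_fun] at hx
    obtain ⟨α, hα⟩ := hx
    exact ⟨α, by rw [← hα]; simp_rw [Algebra.smul_def]⟩
  obtain ⟨x, hx⟩ := exists_expansion (p := p) (fun j : J => (j : B)) z c r hy hz η
  refine ⟨c₀ ^ (ℓ + 1), pow_ne_zero _ hc₀, ?_⟩
  -- `[c ^ (ℓ+1)] V^n η = V^n ([c ^ ((ℓ+1) p ^ n)] η)`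
  rw [mul_comm, iter_V_mul_teich, mul_comm η]
  have hcp : (algebraMap A B (c₀ ^ (ℓ + 1))) ^ p ^ n = c ^ ((ℓ + 1) * p ^ n - 1) * c := by
    change _ = (algebraMap A B c₀) ^ _ * (algebraMap A B c₀)
    rw [map_pow, ← pow_mul, ← pow_succ, Nat.sub_add_cancel]
    exact Nat.mul_pos (Nat.succ_pos ℓ) (pow_pos (Fact.out (p := p.Prime)).pos n)
  rw [hcp, map_mul, mul_assoc, hx, Finset.mul_sum]
  have hVsum : ∀ {K : Type u} (t : Finset K) (f : K → WittVector p B),
      (⇑(WittVector.verschiebung : WittVector p B →+ WittVector p B))^[n] (∑ k ∈ t, f k) =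
      ∑ k ∈ t, (⇑(WittVector.verschiebung : WittVector p B →+ WittVector p B))^[n] (f k) := by
    intro K t f
    have : ∀ m : ℕ, (⇑(WittVector.verschiebung : WittVector p B →+ WittVector p B))^[m]
        (∑ k ∈ t, f k) =
        ∑ k ∈ t, (⇑(WittVector.verschiebung : WittVector p B →+ WittVector p B))^[m] (f k) := by
      intro m
      induction m with
      | zero => rfl
      | succ m ih =>
        rw [Function.iterate_succ_apply', ih, map_sum]
        exact Finset.sum_congr rfl fun k _ => by rw [Function.iterate_succ_apply']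
    exact this n
  simp_rw [Finset.mul_sum]
  have hmem : ∀ (j : J) (i : Fin ℓ),
      (⇑(WittVector.verschiebung : WittVector p B →+ WittVector p B))^[n]
        (teichmuller p (c ^ ((ℓ + 1) * p ^ n - 1)) * (teichmuller p (z j i) *
          map (algebraMap A B) (x j i))) ∈
      Ideal.span (Set.range (fun x : WittVector p A =>
        WittVector.map (algebraMap A B)
          ((⇑(WittVector.verschiebung : WittVector p A →+ WittVector p A))^[n] x))) := by
    intro j i
    obtain ⟨a, ha⟩ := hz n j
    -- `c ^ ((i+1) p^n) * z j i = a ^ (i+1) * (z j (r n) ^ (i+1)) ^ p ^ n`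
    have h1 : c ^ (((i : ℕ) + 1) * p ^ n) * z j i =
        algebraMap A B (a ^ ((i : ℕ) + 1)) * (z j (r n) ^ ((i : ℕ) + 1)) ^ p ^ n := by
      have h2 : c ^ (((i : ℕ) + 1) * p ^ n) * z j i = (c ^ p ^ n * (j : B)) ^ ((i : ℕ) + 1) := by
        change c ^ _ * (j : B) ^ ((i : ℕ) + 1) = _
        rw [mul_pow, ← pow_mul, mul_comm (p ^ n)]
      rw [h2, ha, mul_pow, map_pow, pow_right_comm (z j (r n))]
    have hle : ((i : ℕ) + 1) * p ^ n ≤ (ℓ + 1) * p ^ n - 1 := by
      have h2 : 0 < p ^ n := pow_pos (Fact.out (p := p.Prime)).pos n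
      have h3 : ((i : ℕ) + 1) * p ^ n ≤ ℓ * p ^ n := Nat.mul_le_mul_right _ i.2
      have h4 : (ℓ + 1) * p ^ n = ℓ * p ^ n + p ^ n := by ring
      omega
    obtain ⟨e, he⟩ := Nat.exists_eq_add_of_le hle
    have h5 : teichmuller p (c ^ ((ℓ + 1) * p ^ n - 1)) * (teichmuller p (z j i) *
          map (algebraMap A B) (x j i)) =
        map (algebraMap A B) (teichmuller p (c₀ ^ e * a ^ ((i : ℕ) + 1)) * x j i) *
          teichmuller p ((z j (r n) ^ ((i : ℕ) + 1)) ^ p ^ n) := by
      have h7 : teichmuller p (c ^ ((ℓ + 1) * p ^ n - 1)) * teichmuller p (z j i) =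
          map (algebraMap A B) (teichmuller p (c₀ ^ e * a ^ ((i : ℕ) + 1))) *
            teichmuller p ((z j (r n) ^ ((i : ℕ) + 1)) ^ p ^ n) := by
        rw [map_teichmuller, ← map_mul (teichmuller p), ← map_mul (teichmuller p)]
        congr 1
        rw [he, pow_add, mul_right_comm, h1, map_mul (algebraMap A B), map_pow (algebraMap A B) c₀]
        change _ * (algebraMap A B c₀) ^ e = _
        ring
      rw [← mul_assoc, h7, map_mul (map (algebraMap A B))]
      ring
    rw [h5, ← iter_V_mul_teich]
    have h6 : ∀ (m : ℕ) (w : WittVector p A),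
        (⇑(WittVector.verschiebung : WittVector p B →+ WittVector p B))^[m]
          (map (algebraMap A B) w) = map (algebraMap A B)
          ((⇑(WittVector.verschiebung : WittVector p A →+ WittVector p A))^[m] w) := by
      intro m
      induction m with
      | zero => exact fun w => rfl
      | succ m ih =>
        intro w
        rw [Function.iterate_succ_apply', ih, Function.iterate_succ_apply', map_verschiebung]
    rw [h6]
    exact Ideal.mul_mem_right _ _ (Ideal.subset_span ⟨_, rfl⟩)
  rw [hVsum]
  refine Ideal.sum_mem _ fun j _ => ?_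
  have hVsum' : ∀ {K : Type} (t : Finset K) (f : K → WittVector p B),
      (⇑(WittVector.verschiebung : WittVector p B →+ WittVector p B))^[n] (∑ k ∈ t, f k) =
      ∑ k ∈ t, (⇑(WittVector.verschiebung : WittVector p B →+ WittVector p B))^[n] (f k) := by
    intro K t f
    have : ∀ m : ℕ, (⇑(WittVector.verschiebung : WittVector p B →+ WittVector p B))^[m]
        (∑ k ∈ t, f k) =
        ∑ k ∈ t, (⇑(WittVector.verschiebung : WittVector p B →+ WittVector p B))^[m] (f k) := by
      intro m
      induction m with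
      | zero => rfl
      | succ m ih =>
        rw [Function.iterate_succ_apply', ih, map_sum]
        exact Finset.sum_congr rfl fun k _ => by rw [Function.iterate_succ_apply']
    exact this n
  rw [hVsum']
  exact Ideal.sum_mem _ fun i _ => hmem j i

end K93.WittSpan
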